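import Cfsg.Agent.Fusion.Complements

/-!
# Odd groups with a fixed-point-free element inverted by an involution

`card_eq_sq`: if `x` of odd order acts without fixed points on `X` and is inverted by the
involution `t`, then `|X| = |C_X(t)|²` (no solvability or coprimality is needed).
`false_of_fixed`: the counting that forbids an element of the small torus of `L₂(q)` to commute
with the element `w` of order three.
-/

set_option autoImplicit false
set_option linter.style.haveILetI false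

namespace Cfsg.Agent.H79.Ward

open Subgroup

variable {G : Type*} [Group G] [Finite G]

theorem card_eq_sq {t x : G} (X : Subgroup G) (ht : t * t = 1) (hinv : t * x * t = x⁻¹)
    (hodd : Odd (orderOf x)) (hXt : ∀ d ∈ X, t * d * t ∈ X) (hXx : ∀ d ∈ X, x * d * x⁻¹ ∈ X)
    (hfpf : ∀ d ∈ X, Commute x d → d = 1) :
    Nat.card X = Nat.card ↥(X ⊓ centralizer ({t} : Set G)) ^ 2 := by
  have hti : t⁻¹ = t := inv_eq_of_mul_eq_one_right ht
  have hxt : x * t = t * x⁻¹ := by
    rw [← hinv, ← mul_assoc, ← mul_assoc, ht, one_mul]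
  have hcent : ∀ {d : G}, d ∈ centralizer ({t} : Set G) ↔ t * d * t = d := by
    intro d
    rw [mem_centralizer_singleton_iff]
    constructor
    · intro h
      rw [← h, mul_assoc, ht, mul_one]
    · intro h
      conv_lhs => rw [← h]
      rw [mul_assoc, ht, mul_one]
  set A := X ⊓ centralizer ({t} : Set G) with hA
  set B := X ⊓ centralizer ({t * x} : Set G) with hB
  -- conjugation by the square root of `x` carries `A` to `B`
  obtain ⟨k, hk⟩ := hodd
  set y := x ^ (k + 1) with hy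
  have hyy : y * y = x := by
    rw [hy, ← pow_add, show k + 1 + (k + 1) = orderOf x + 1 by omega, pow_succ, pow_orderOf_eq_one,
      one_mul]
  have hyt : t * y * t = y⁻¹ := by
    have h : MulAut.conj t x = x⁻¹ := by simpa [hti] using hinv
    have h2 : MulAut.conj t y = y⁻¹ := by rw [hy, map_pow, h, inv_pow]
    simpa [hti] using h2
  have htx : y⁻¹ * t * y = t * x := by
    rw [← hyy, ← hyt]
    calc t * y * t * t * y = t * y * (t * t) * y := by simp [mul_assoc]
      _ = t * (y * y) := by rw [ht, mul_one, mul_assoc]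
  have hXxn : ∀ (n : ℕ), ∀ d ∈ X, x ^ n * d * (x ^ n)⁻¹ ∈ X := by
    intro n
    induction n with
    | zero => intro d hd; simpa using hd
    | succ n ih =>
      intro d hd
      have := hXx _ (ih d hd)
      rw [pow_succ']
      simpa [mul_assoc] using this
  have hXz : ∀ (n : ℤ), ∀ d ∈ X, x ^ n * d * (x ^ n)⁻¹ ∈ X := by
    intro n d hd
    obtain ⟨m, hm⟩ : ∃ m : ℕ, x ^ m = x ^ n := by
      have h := mem_powers_iff_mem_zpowers.2 (zpow_mem (mem_zpowers x) n)
      exact Submonoid.mem_powers_iff _ _ |>.1 h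
    rw [← hm]
    exact hXxn m d hd
  have hBcard : Nat.card B = Nat.card A := by
    have : B = A.map (MulAut.conj y⁻¹).toMonoidHom := by
      ext d
      simp only [mem_map_equiv, hA, hB, mem_inf]
      rw [MulAut.conj_symm_apply, inv_inv]
      constructor
      · rintro ⟨hd, hdc⟩
        refine ⟨hXxn _ d hd, ?_⟩
        rw [mem_centralizer_singleton_iff] at hdc ⊢
        calc y * d * y⁻¹ * t = y * (d * (y⁻¹ * t * y)) * y⁻¹ := by simp [mul_assoc]
          _ = y * (y⁻¹ * t * y * d) * y⁻¹ := by rw [htx, hdc]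
          _ = t * (y * d * y⁻¹) := by simp [mul_assoc]
      · rintro ⟨hd, hdc⟩
        refine ⟨?_, ?_⟩
        · have := hXz (-((k + 1 : ℕ) : ℤ)) _ hd
          rw [zpow_neg, zpow_natCast, ← hy, inv_inv] at this
          simpa [mul_assoc] using this
        · rw [mem_centralizer_singleton_iff] at hdc ⊢
          rw [← htx]
          calc d * (y⁻¹ * t * y) = y⁻¹ * (y * d * y⁻¹ * t) * y := by simp [mul_assoc]
            _ = y⁻¹ * (t * (y * d * y⁻¹)) * y := by rw [hdc]
            _ = y⁻¹ * t * y * d := by simp [mul_assoc]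
    rw [this, Subgroup.card_map_of_injective (MulAut.conj y⁻¹).injective]
  -- the product map is bijective
  let f : A × B → X := fun p => ⟨(p.1 : G) * p.2, X.mul_mem p.1.2.1 p.2.2.1⟩
  have hinj : Function.Injective f := by
    rintro ⟨a, b⟩ ⟨a', b'⟩ h
    have h' : (a : G) * b = a' * b' := congrArg Subtype.val h
    have e : (a' : G)⁻¹ * a = b' * (b : G)⁻¹ := by
      rw [eq_mul_inv_iff_mul_eq, mul_assoc, h', inv_mul_cancel_left]
    have h1 := (A.mul_mem (A.inv_mem a'.2) a.2)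
    have h2 := (B.mul_mem b'.2 (B.inv_mem b.2))
    rw [← e] at h2
    have c1 : Commute t ((a' : G)⁻¹ * a) := (mem_centralizer_singleton_iff.1 h1.2).symm
    have c2 : Commute (t * x) ((a' : G)⁻¹ * a) := (mem_centralizer_singleton_iff.1 h2.2).symm
    have c3 : Commute x ((a' : G)⁻¹ * a) := by
      have := c1.mul_left c2
      rwa [← mul_assoc, ht, one_mul] at this
    have h3 := hfpf _ h1.1 c3
    have ha : a = a' := Subtype.ext (eq_of_inv_mul_eq_one h3).symm
    subst ha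
    exact Prod.ext rfl (Subtype.ext (mul_left_cancel h'))
  let φ : X → X := fun d => ⟨(d : G)⁻¹ * (x * d * x⁻¹), X.mul_mem (X.inv_mem d.2) (hXx _ d.2)⟩
  have hφ : Function.Injective φ := by
    intro d e h
    have h' : (d : G)⁻¹ * (x * d * x⁻¹) = (e : G)⁻¹ * (x * e * x⁻¹) := congrArg Subtype.val h
    have hc : Commute x ((e : G) * (d : G)⁻¹) := by
      have h2 : (e : G) * (d : G)⁻¹ * x = x * ((e : G) * (d : G)⁻¹) := by
        calc (e : G) * (d : G)⁻¹ * x = e * ((d : G)⁻¹ * (x * d * x⁻¹)) * (x * (d : G)⁻¹) * 1 := by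
              group
          _ = e * ((e : G)⁻¹ * (x * e * x⁻¹)) * (x * (d : G)⁻¹) * 1 := by rw [h']
          _ = x * ((e : G) * (d : G)⁻¹) := by group
      exact h2.symm
    exact Subtype.ext (mul_inv_eq_one.1 (hfpf _ (X.mul_mem e.2 (X.inv_mem d.2)) hc)).symm
  have hsurj : Function.Surjective f := by
    rintro ⟨p, hp⟩
    have hm : p⁻¹ * (t * p * t) ∈ X := X.mul_mem (X.inv_mem hp) (hXt p hp)
    set m := p⁻¹ * (t * p * t) with hmdef
    obtain ⟨⟨d, hd⟩, hdm⟩ := Finite.surjective_of_injective hφ (⟨m, hm⟩ : X)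
    replace hdm : d⁻¹ * (x * d * x⁻¹) = m := congrArg Subtype.val hdm
    have htm : t * m * t = m⁻¹ := by
      rw [hmdef]
      simp only [mul_inv_rev, inv_inv, hti, mul_assoc, ht, mul_one]
    have he : x⁻¹ * (t * d * t) * x ∈ X := by
      have := hXz (-1) _ (hXt d hd)
      simpa [mul_assoc] using this
    have hφe : φ ⟨_, he⟩ = φ ⟨d, hd⟩ := by
      refine Subtype.ext ?_
      show (x⁻¹ * (t * d * t) * x)⁻¹ * (x * (x⁻¹ * (t * d * t) * x) * x⁻¹) = d⁻¹ * (x * d * x⁻¹)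
      rw [hdm]
      have hd1 : d⁻¹ * x⁻¹ * d = x⁻¹ * m⁻¹ := by rw [← hdm]; group
      calc (x⁻¹ * (t * d * t) * x)⁻¹ * (x * (x⁻¹ * (t * d * t) * x) * x⁻¹)
          = x⁻¹ * t * d⁻¹ * (t * x * t) * d * t := by
            simp only [mul_inv_rev, inv_inv, hti]; group
        _ = x⁻¹ * t * (d⁻¹ * x⁻¹ * d) * t := by rw [hinv]; group
        _ = x⁻¹ * (t * x * t)⁻¹ * (t * m * t)⁻¹ := by
            rw [hd1]; simp only [mul_inv_rev, hti]
            calc x⁻¹ * t * (x⁻¹ * m⁻¹) * t = x⁻¹ * t * x⁻¹ * (t * t) * m⁻¹ * t := by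
                  rw [ht]; group
              _ = _ := by group
        _ = m := by rw [hinv, htm]; group
    have hde : x⁻¹ * (t * d * t) * x = d := congrArg Subtype.val (hφ hφe)
    have hde' : x * d * x⁻¹ = t * d * t := by
      conv_lhs => rw [← hde]
      group
    have hb : d ∈ B := ⟨hd, mem_centralizer_singleton_iff.2 (by
      calc d * (t * x) = t * (t * d * t) * x := by
            rw [← mul_assoc, ← mul_assoc t, ← mul_assoc t t, ht, one_mul]
        _ = t * x * d := by rw [← hde']; group)⟩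
    have hdm' : t * d * t = d * m := by rw [← hde', ← hdm, mul_inv_cancel_left]
    have ha : p * d⁻¹ ∈ A := ⟨X.mul_mem hp (X.inv_mem hd), hcent.2 (by
      calc t * (p * d⁻¹) * t = (t * p * t) * (t * d * t)⁻¹ := by
            simp only [mul_inv_rev, hti, mul_assoc]
            rw [← mul_assoc t t (d⁻¹ * t), ht, one_mul]
        _ = p * m * (d * m)⁻¹ := by rw [hdm', hmdef, mul_inv_cancel_left]
        _ = p * d⁻¹ := by group)⟩
    exact ⟨⟨⟨_, ha⟩, ⟨d, hb⟩⟩, Subtype.ext (inv_mul_cancel_right p d)⟩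
  rw [← Nat.card_eq_of_bijective f ⟨hinj, hsurj⟩, Nat.card_prod, hBcard, sq]

/-- An element of prime order without fixed points: `r ∣ |X| - 1`. -/
theorem card_modEq_one {x : G} {r : ℕ} [Fact r.Prime] (X : Subgroup G) (hx : x ^ r = 1)
    (hXx : ∀ d ∈ X, x * d * x⁻¹ ∈ X) (hfpf : ∀ d ∈ X, Commute x d → d = 1) :
    Nat.card X ≡ 1 [MOD r] := by
  let f : Function.End X := fun d => ⟨x * d * x⁻¹, hXx _ d.2⟩
  have hfn : ∀ (n : ℕ) (d : X), (((f ^ n) d : X) : G) = x ^ n * d * (x ^ n)⁻¹ := by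
    intro n
    induction n with
    | zero =>
      intro d
      rw [pow_zero, pow_zero, one_mul, inv_one, mul_one]
      rfl
    | succ n ih =>
      intro d
      rw [pow_succ']
      show x * ((f ^ n) d : G) * x⁻¹ = _
      rw [ih, pow_succ']
      group
  have hf : f ^ r ^ 1 = 1 := by
    refine funext fun d => Subtype.ext ?_
    rw [pow_one, hfn, hx, one_mul, inv_one, mul_one]
    rfl
  classical
  have := Fintype.ofFinite X
  have hfix : Function.fixedPoints f = {1} := by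
    ext d
    refine ⟨fun hd => Subtype.ext (hfpf d d.2 ?_), ?_⟩
    · have h1 : x * (d : G) * x⁻¹ = d := congrArg Subtype.val hd
      exact mul_inv_eq_iff_eq_mul.1 h1
    · rintro rfl
      exact Subtype.ext (by simp [f])
  have h := Equiv.Perm.card_fixedPoints_modEq (f := f) (n := 1) hf
  have h1 : Fintype.card (Function.fixedPoints f) = 1 := by
    rw [← Nat.card_eq_fintype_card, hfix]
    simp
  rw [Nat.card_eq_fintype_card]
  rwa [h1] at h

theorem zpowers_eq_of_card {H : Type*} [Group H] [Finite H] [IsCyclic H] {a b : H}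
    (h : orderOf a = orderOf b) : zpowers a = zpowers b := by
  classical
  have := Fintype.ofFinite H
  have hsub : ∀ c : H, orderOf c = orderOf a →
      (zpowers c : Set H) = ↑(Finset.univ.filter fun z : H => z ^ orderOf a = 1) := by
    intro c hc
    refine Set.eq_of_subset_of_ncard_le (fun z hz => ?_) ?_ (Set.toFinite _)
    · simp only [Finset.coe_filter, Finset.mem_univ, true_and, Set.mem_setOf_eq]
      rw [← hc, ← orderOf_dvd_iff_pow_eq_one]
      exact orderOf_dvd_of_mem_zpowers hz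
    · rw [Set.ncard_coe_finset, ← Nat.card_coe_set_eq]
      rw [show Nat.card ↥(zpowers c : Set H) = orderOf a from (Nat.card_zpowers c).trans hc]
      exact IsCyclic.card_pow_eq_one_le (orderOf_pos a)
  exact SetLike.coe_injective ((hsub a rfl).trans (hsub b h.symm).symm)

/-- **No element of the torus commutes with `w`** (split and unipotent `w`): `O` is the odd part
of `C(w)`, `3c` the order of the odd part of `C(w) ∩ C(t)`. -/
theorem false_of_fixed {t w x : G} {r c : ℕ} (O Kw : Subgroup G) [IsCyclic ↥Kw]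
    (ht : t * t = 1) (htw : Commute t w) (hw : orderOf w = 3) (hOw : ∀ d ∈ O, Commute d w)
    (hwO : w ∈ O) (hOn : ∀ g : G, Commute g w → ∀ d ∈ O, g * d * g⁻¹ ∈ O)
    (hOodd : Odd (Nat.card ↥O)) (hKO : Kw ≤ O) (hKinv : ∀ y ∈ Kw, t * y * t = y⁻¹)
    (hK3 : ¬ 3 ∣ Nat.card ↥Kw)
    (hc : Nat.card ↥(O ⊓ centralizer ({t} : Set G)) = 3 * c)
    (hcK : (3 * c).Coprime (Nat.card ↥Kw))
    (hCy : ∀ y ∈ Kw, y ≠ 1 → ∀ g ∈ O, Commute g y → ∃ i : ℕ, g * w ^ i ∈ Kw)
    (hNy : ∀ y ∈ Kw, y ≠ 1 → ∀ g ∈ O, g * y * g⁻¹ ∈ zpowers y → Commute g y)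
    (hx : x ∈ Kw) (hxr : orderOf x = r) (hr : r.Prime)
    (hdiv : r ∣ (3 * c) ^ 2 - 1) : False := by
  have hwn : ∀ (i : ℕ) (d : G), d ∈ O → Commute d (w ^ i) := fun i d hd => (hOw d hd).pow_right i
  -- each prime divisor of `|Kw|` has a normal complement in `O`
  have hcomp : ∀ s : ℕ, s.Prime → s ∣ Nat.card ↥Kw → ∃ N : Subgroup G, N ≤ O ∧
      (∀ g : G, Commute g w → ∀ d ∈ N, g * d * g⁻¹ ∈ N) ∧
      (∀ d ∈ O, ¬ s ∣ orderOf d → d ∈ N) ∧ (∀ d ∈ N, ¬ s ∣ orderOf d) := by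
    intro s hs hsK
    haveI : Fact s.Prime := ⟨hs⟩
    obtain ⟨y0, hy0⟩ := exists_prime_orderOf_dvd_card' (G := Kw) s hsK
    set y : O := ⟨y0, hKO y0.2⟩ with hy
    have hyo : orderOf y = s := by
      rw [← orderOf_coe y]; show orderOf (y0 : G) = s; rw [orderOf_coe, hy0]
    obtain ⟨S, hS⟩ := (IsPGroup.of_card (p := s) (G := zpowers y) (n := 1)
      (by rw [Nat.card_zpowers, hyo, pow_one])).exists_le_sylow
    have hs3 : s ≠ 3 := fun h => hK3 (h ▸ hsK)
    have hprim : ∀ g ∈ O, ∀ i : ℕ, g * w ^ i ∈ Kw → ∀ k : ℕ, orderOf g = s ^ k → g ∈ Kw := by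
      intro g hg i hi k hk
      have h1 : (g * w ^ i) ^ (s ^ k) ∈ Kw := pow_mem hi _
      rw [(hwn i g hg).mul_pow, ← hk, pow_orderOf_eq_one, one_mul, hk, ← pow_mul] at h1
      have h3 : w ^ (i * s ^ k) = 1 := by
        by_contra hne
        refine hK3 ?_
        have ho : orderOf (w ^ (i * s ^ k)) = 3 := by
          refine (Nat.dvd_prime Nat.prime_three).1 ?_ |>.resolve_left
            (fun h => hne (orderOf_eq_one_iff.1 h))
          rw [← hw]; exact orderOf_pow_dvd _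
        rw [← ho]
        exact Subgroup.orderOf_dvd_natCard _ h1
      have hdvd : 3 ∣ i * s ^ k := hw ▸ orderOf_dvd_of_pow_eq_one h3
      have hi3 : 3 ∣ i := ((Nat.Coprime.pow_right k ((Nat.coprime_primes Nat.prime_three hs).2
        hs3.symm))).dvd_of_dvd_mul_right hdvd
      rwa [orderOf_dvd_iff_pow_eq_one.1 (hw.symm ▸ hi3 : orderOf w ∣ i), mul_one] at hi
    haveI : Nontrivial ↥(S : Subgroup O) :=
      ⟨⟨⟨y, hS (mem_zpowers y)⟩, 1, fun h => by
        have : y = 1 := congrArg Subtype.val h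
        rw [this, orderOf_one] at hyo; exact hs.ne_one hyo.symm⟩⟩
    have := S.isPGroup'.center_nontrivial
    obtain ⟨⟨⟨z, hzS⟩, hzc⟩, hz1⟩ := exists_ne (1 : center ↥(S : Subgroup O))
    have hSp : ∀ g : O, g ∈ (S : Subgroup O) → ∃ k : ℕ, orderOf (g : G) = s ^ k := by
      intro g hg
      obtain ⟨k, hk⟩ := IsPGroup.iff_orderOf.1 S.isPGroup' ⟨g, hg⟩
      refine ⟨k, ?_⟩
      rw [← hk, Subgroup.orderOf_mk, orderOf_coe]
    have hzK : (z : G) ∈ Kw := by
      obtain ⟨i, hi⟩ := hCy _ y0.2 (fun h => by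
        rw [← Subgroup.orderOf_coe, h, orderOf_one] at hy0; exact hs.ne_one hy0.symm) z z.2
        (congrArg (fun a : ↥(S : Subgroup O) => ((a : O) : G))
          (mem_center_iff.1 hzc ⟨y, hS (mem_zpowers y)⟩)).symm
      obtain ⟨k, hk⟩ := hSp z hzS
      exact hprim _ z.2 i hi k hk
    have hSK : ∀ g : O, g ∈ (S : Subgroup O) → (g : G) ∈ Kw := by
      intro g hg
      obtain ⟨i, hi⟩ := hCy _ hzK (fun h => hz1 (Subtype.ext (Subtype.ext (Subtype.ext h)))) g g.2
        (congrArg (fun a : ↥(S : Subgroup O) => ((a : O) : G)) (mem_center_iff.1 hzc ⟨g, hg⟩))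
      obtain ⟨k, hk⟩ := hSp g hg
      exact hprim _ g.2 i hi k hk
    have hab : IsMulCommutative Kw := inferInstance
    haveI : IsMulCommutative ↥(S : Subgroup O) := by
      constructor
      constructor
      intro a b
      refine Subtype.ext (Subtype.ext ?_)
      show ((a : O) : G) * b = b * a
      exact congrArg Subtype.val (hab.is_comm.comm ⟨_, hSK a a.2⟩ ⟨_, hSK b b.2⟩)
    obtain ⟨P, N, hN, hPN⟩ := Fusion.hasNormalPComplement_of_abelian S fun g hg _ => by
      refine mem_centralizer_iff.2 fun u hu => Subtype.ext ?_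
      rcases eq_or_ne (u : G) 1 with hu1 | hu1
      · show (u : G) * g = g * u
        rw [hu1, one_mul, mul_one]
      refine (hNy _ (hSK u hu) hu1 g g.2 ?_).eq.symm
      have hu' : (g : G) * u * (g : G)⁻¹ ∈ Kw := hSK _ ((mem_normalizer_iff.1 hg u).1 hu)
      haveI : IsCyclic Kw := inferInstance
      have e : zpowers (⟨_, hu'⟩ : Kw) = zpowers (⟨u, hSK u hu⟩ : Kw) := by
        refine H79.Ward.zpowers_eq_of_card ?_
        rw [← orderOf_coe, ← orderOf_coe]
        show orderOf ((g : G) * u * (g : G)⁻¹) = orderOf (u : G)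
        rw [← MulAut.conj_apply, MulEquiv.orderOf_eq]
      have hm : (⟨_, hu'⟩ : Kw) ∈ zpowers (⟨u, hSK u hu⟩ : Kw) := e ▸ mem_zpowers _
      obtain ⟨j, hj⟩ := mem_zpowers_iff.1 hm
      exact mem_zpowers_iff.2 ⟨j, by simpa using congrArg Subtype.val hj⟩
    have hidx : N.index = Nat.card ↥(P : Subgroup O) := hPN.symm.index_eq_card
    have hNc : ¬ s ∣ Nat.card N := by
      have h1 := hPN.card_mul_card
      have h2 : Nat.card N = (P : Subgroup O).index := by
        rw [← Subgroup.card_mul_index (P : Subgroup O)] at h1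
        rw [mul_comm (Nat.card N)] at h1
        exact Nat.eq_of_mul_eq_mul_left Nat.card_pos h1
      rw [h2]; exact P.not_dvd_index
    have hmem : ∀ d : O, ¬ s ∣ orderOf d → d ∈ N := by
      intro d hd
      obtain ⟨k, hk⟩ := IsPGroup.iff_card.1 P.isPGroup'
      rw [← QuotientGroup.eq_one_iff]
      have h1 : orderOf (d : O ⧸ N) ∣ orderOf d := orderOf_map_dvd (QuotientGroup.mk' N) d
      have h2 : orderOf (d : O ⧸ N) ∣ s ^ k := by
        rw [← hk, ← hidx, index_eq_card]; exact orderOf_dvd_natCard _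
      exact orderOf_eq_one_iff.1 (Nat.eq_one_of_dvd_coprimes
        (((hs.coprime_iff_not_dvd).2 hd).symm.pow_right k) h1 h2)
    have hout : ∀ d : O, d ∈ N → ¬ s ∣ orderOf d := fun d hd h =>
      hNc (h.trans (Subgroup.orderOf_dvd_natCard N hd))
    refine ⟨N.map O.subtype, map_subtype_le N, ?_, ?_, ?_⟩
    · rintro g hg _ ⟨d, hd, rfl⟩
      refine ⟨⟨g * d * g⁻¹, hOn g hg d d.2⟩, hmem _ ?_, rfl⟩
      rw [← orderOf_coe]
      show ¬ s ∣ orderOf (g * (d : G) * g⁻¹)
      rw [← MulAut.conj_apply, MulEquiv.orderOf_eq, orderOf_coe]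
      exact hout d hd
    · exact fun d hd h => ⟨⟨d, hd⟩, hmem _ (by rwa [← orderOf_coe]), rfl⟩
    · rintro _ ⟨d, hd, rfl⟩ h
      exact hout d hd (by rwa [← orderOf_coe])
  choose N hNO hNn hNin hNout using hcomp
  -- `X` : the elements of `O` of order prime to `|Kw|`
  let X : Subgroup G := O ⊓ ⨅ (s : ℕ) (hs : s.Prime) (hd : s ∣ Nat.card ↥Kw), N s hs hd
  have hXmem : ∀ d, d ∈ X ↔ d ∈ O ∧ (orderOf d).Coprime (Nat.card ↥Kw) := by
    intro d
    simp only [X, mem_inf, mem_iInf]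
    refine and_congr_right fun hd => ⟨fun h => ?_, fun h s hs hsd => hNin s hs hsd d hd ?_⟩
    · exact Nat.coprime_of_dvd fun s hs h1 h2 => hNout s hs h2 d (h s hs h2) h1
    · exact fun h1 => hs.ne_one (Nat.eq_one_of_dvd_coprimes h h1 hsd)
  have hXconj : ∀ g : G, Commute g w → ∀ d ∈ X, g * d * g⁻¹ ∈ X := by
    intro g hg d hd
    rw [hXmem] at hd ⊢
    refine ⟨hOn g hg d hd.1, ?_⟩
    rw [← MulAut.conj_apply, MulEquiv.orderOf_eq]
    exact hd.2
  -- pass to `C(w) / ⟨w⟩`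
  set M := centralizer ({w} : Set G) with hM
  have hcw : ∀ {g : G}, g ∈ M ↔ Commute g w := mem_centralizer_singleton_iff
  haveI hWn : ((zpowers w).subgroupOf M).Normal := ⟨fun n hn g => by
    rw [mem_subgroupOf] at hn ⊢
    obtain ⟨i, hi⟩ := mem_zpowers_iff.1 hn
    simp only [coe_mul, coe_inv, ← hi]
    rw [((hcw.1 g.2).zpow_right i).eq, mul_inv_cancel_right]
    exact zpow_mem (mem_zpowers w) i⟩
  set π := QuotientGroup.mk' ((zpowers w).subgroupOf M) with hπ
  set tb := π ⟨t, hcw.2 htw⟩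
  have hxw : Commute x w := hOw x (hKO hx)
  set xb := π ⟨x, hcw.2 hxw⟩
  have hXM : X ≤ M := fun d hd => hcw.2 (hOw d hd.1)
  set Xb := (X.subgroupOf M).map π
  have hr2 : r ≠ 2 := by
    intro h
    have := Odd.of_dvd_nat hOodd (hxr ▸ Subgroup.orderOf_dvd_natCard O (hKO hx))
    rw [h] at this
    exact Nat.not_odd_iff_even.2 even_two this
  have hrK : r ∣ Nat.card ↥Kw := hxr ▸ Subgroup.orderOf_dvd_natCard Kw hx
  have hr3 : r ≠ 3 := fun h => hK3 (h ▸ hrK)
  have hker : ∀ {g : M}, π g = 1 ↔ (g : G) ∈ zpowers w := fun {g} => by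
    rw [hπ, QuotientGroup.mk'_apply, QuotientGroup.eq_one_iff, mem_subgroupOf]
  -- conjugation by an element of order prime to 3 fixes a coset only pointwise
  have hlift : ∀ (g : G), Commute g w → ∀ (n : ℕ), g ^ n = 1 → n.Coprime 3 → ∀ d : G,
      Commute d w → (g * d * g⁻¹ * d⁻¹) ∈ zpowers w → Commute g d := by
    intro g hg n hgn hn3 d hdw hmemz
    obtain ⟨i, hi⟩ := mem_zpowers_iff.1 hmemz
    have h1 : g * d * g⁻¹ = w ^ i * d := by rw [hi]; group
    have h2 : ∀ m : ℕ, g ^ m * d * (g ^ m)⁻¹ = w ^ (i * (m : ℤ)) * d := by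
      intro m
      induction m with
      | zero => simp
      | succ m ih =>
        calc g ^ (m + 1) * d * (g ^ (m + 1))⁻¹ = g * (g ^ m * d * (g ^ m)⁻¹) * g⁻¹ := by
              rw [pow_succ']; group
          _ = g * (w ^ (i * (m : ℤ)) * d) * g⁻¹ := by rw [ih]
          _ = w ^ (i * (m : ℤ)) * (g * d * g⁻¹) := by
              rw [← mul_assoc g, (hg.zpow_right _).eq]; group
          _ = _ := by
              rw [h1, ← mul_assoc, ← zpow_add]; push_cast; ring_nf
    have h3 := h2 n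
    rw [hgn] at h3
    simp only [one_mul, inv_one, mul_one, eq_comm (a := d), mul_eq_right] at h3
    have h4 : (3 : ℤ) ∣ i * (n : ℤ) := by
      rw [← orderOf_dvd_iff_zpow_eq_one, hw] at h3; exact_mod_cast h3
    have h5 : (3 : ℤ) ∣ i :=
      (Int.isCoprime_iff_nat_coprime.2 (by simpa using hn3.symm)).dvd_of_dvd_mul_right h4
    have h6 : w ^ i = 1 := by
      rw [← orderOf_dvd_iff_zpow_eq_one, hw]; exact_mod_cast h5
    rw [h6, one_mul] at h1
    exact mul_inv_eq_iff_eq_mul.1 h1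
  have ht2 : t ^ 2 = 1 := by rw [pow_two, ht]
  haveI : Fact r.Prime := ⟨hr⟩
  have hxb : orderOf xb = r := by
    refine orderOf_eq_prime (hxr ▸ ?_) ?_
    · rw [← map_pow]
      convert map_one π
      exact Subtype.ext (pow_orderOf_eq_one x)
    · intro h
      have h1 : x ∈ zpowers w := hker.1 h
      have := Subgroup.orderOf_dvd_natCard _ h1
      rw [Nat.card_zpowers, hw, hxr] at this
      exact hr3 ((Nat.prime_dvd_prime_iff_eq hr Nat.prime_three).1 this)
  have hfix : ∀ d ∈ Xb, Commute xb d → d = 1 := by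
    rintro _ ⟨⟨d, hdM⟩, hd, rfl⟩ hcomm
    have hd' : d ∈ X := mem_subgroupOf.1 hd
    have h1 : x * d * x⁻¹ * d⁻¹ ∈ zpowers w := by
      refine hker (g := ⟨x, hcw.2 hxw⟩ * ⟨d, hdM⟩ * ⟨x, hcw.2 hxw⟩⁻¹ * ⟨d, hdM⟩⁻¹) |>.1 ?_
      simp only [map_mul, map_inv]
      rw [show π ⟨x, hcw.2 hxw⟩ = xb from rfl, hcomm.eq]; group
    have h2 : Commute x d := hlift x hxw r (hxr ▸ pow_orderOf_eq_one x)
      ((Nat.coprime_primes hr Nat.prime_three).2 hr3) d (hcw.1 hdM) h1
    rw [hXmem] at hd'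
    obtain ⟨i, hi⟩ := hCy x hx (fun h => by rw [h, orderOf_one] at hxr; exact hr.ne_one hxr.symm)
      d hd'.1 h2.symm
    refine hker.2 ?_
    show d ∈ zpowers w
    -- `d w^i ∈ Kw` has order prime to `|Kw|`
    have h3 : (orderOf (d * w ^ i)).Coprime (Nat.card ↥Kw) := by
      refine Nat.Coprime.coprime_dvd_left ((hwn i d hd'.1).orderOf_mul_dvd_mul_orderOf) ?_
      refine Nat.Coprime.mul_left hd'.2 (Nat.Coprime.coprime_dvd_left (orderOf_pow_dvd i) ?_)
      rw [hw]; exact (Nat.prime_three.coprime_iff_not_dvd).2 hK3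
    have h4 : d * w ^ i = 1 := orderOf_eq_one_iff.1
      (Nat.eq_one_of_dvd_coprimes h3 dvd_rfl (Subgroup.orderOf_dvd_natCard Kw hi))
    rw [eq_inv_of_mul_eq_one_left h4]
    exact inv_mem (pow_mem (mem_zpowers w) i)
  have hXbx : ∀ d ∈ Xb, xb * d * xb⁻¹ ∈ Xb := by
    rintro _ ⟨⟨d, hdM⟩, hd, rfl⟩
    exact ⟨⟨x, hcw.2 hxw⟩ * ⟨d, hdM⟩ * ⟨x, hcw.2 hxw⟩⁻¹,
      mem_subgroupOf.2 (hXconj x hxw d (mem_subgroupOf.1 hd)), by rw [map_mul, map_mul, map_inv]⟩
  have hti : t⁻¹ = t := inv_eq_of_mul_eq_one_right ht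
  have htb : tb * tb = 1 := by
    rw [← map_mul]; convert map_one π; exact Subtype.ext ht
  have hXbt : ∀ d ∈ Xb, tb * d * tb ∈ Xb := by
    rintro _ ⟨⟨d, hdM⟩, hd, rfl⟩
    refine ⟨⟨t, hcw.2 htw⟩ * ⟨d, hdM⟩ * ⟨t, hcw.2 htw⟩, mem_subgroupOf.2 ?_, by rw [map_mul, map_mul]⟩
    have := hXconj t htw d (mem_subgroupOf.1 hd)
    rwa [hti] at this
  have hinvb : tb * xb * tb = xb⁻¹ := by
    rw [← map_mul, ← map_mul, ← map_inv]; congr 1; exact Subtype.ext (hKinv x hx)
  have hsq := card_eq_sq Xb htb hinvb (hxb ▸ hr.odd_of_ne_two hr2) hXbt hXbx hfix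
  have hmod := card_modEq_one Xb (hxb ▸ pow_orderOf_eq_one xb) hXbx hfix
  -- `C_X(t)` is the odd part of `C(w) ∩ C(t)`
  have hXt : X ⊓ centralizer ({t} : Set G) = O ⊓ centralizer ({t} : Set G) := by
    refine le_antisymm (inf_le_inf_right _ inf_le_left) fun d hd => ⟨(hXmem d).2 ⟨hd.1, ?_⟩, hd.2⟩
    exact hcK.coprime_dvd_left (hc ▸ Subgroup.orderOf_dvd_natCard _ hd)
  have hwX : w ∈ X := (hXmem w).2 ⟨hwO, by
    rw [hw]; exact (Nat.prime_three.coprime_iff_not_dvd).2 hK3⟩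
  have himg : Xb ⊓ centralizer ({tb} : Set (M ⧸ (zpowers w).subgroupOf M)) =
      ((X ⊓ centralizer ({t} : Set G)).subgroupOf M).map π := by
    refine le_antisymm ?_ ?_
    · rintro _ ⟨⟨⟨d, hdM⟩, hd, rfl⟩, hc'⟩
      have h0 : tb * π ⟨d, hdM⟩ = π ⟨d, hdM⟩ * tb := (mem_centralizer_singleton_iff.1 hc').symm
      have h1 : t * d * t⁻¹ * d⁻¹ ∈ zpowers w := by
        refine hker (g := ⟨t, hcw.2 htw⟩ * ⟨d, hdM⟩ * ⟨t, hcw.2 htw⟩⁻¹ * ⟨d, hdM⟩⁻¹) |>.1 ?_
        simp only [map_mul, map_inv]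
        rw [show π ⟨t, hcw.2 htw⟩ = tb from rfl, h0]; group
      refine ⟨⟨d, hdM⟩, mem_subgroupOf.2 ⟨mem_subgroupOf.1 hd, ?_⟩, rfl⟩
      exact mem_centralizer_singleton_iff.2
        (hlift t htw 2 ht2 (by norm_num) d (hcw.1 hdM) h1).eq.symm
    · rintro _ ⟨⟨d, hdM⟩, hd, rfl⟩
      obtain ⟨hdX, hdt⟩ := mem_subgroupOf.1 hd
      refine ⟨⟨_, mem_subgroupOf.2 hdX, rfl⟩, mem_centralizer_singleton_iff.2 ?_⟩
      rw [← map_mul, ← map_mul]; congr 1
      exact Subtype.ext (mem_centralizer_singleton_iff.1 hdt)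
  -- cardinality of an image
  have hcard : ∀ Y : Subgroup G, Y ≤ M → w ∈ Y →
      Nat.card Y = 3 * Nat.card ↥((Y.subgroupOf M).map π) := by
    intro Y hY hwY
    have h1 := Subgroup.card_mul_index (((zpowers w).subgroupOf M).subgroupOf (Y.subgroupOf M))
    have h2 : Nat.card ↥((Y.subgroupOf M).map π) =
        (((zpowers w).subgroupOf M).subgroupOf (Y.subgroupOf M)).index := by
      have h3 := Subgroup.index_ker (π.comp (Y.subgroupOf M).subtype)
      rw [MonoidHom.range_comp, Subgroup.range_subtype, ← MonoidHom.comap_ker, hπ,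
        QuotientGroup.ker_mk'] at h3
      exact h3.symm
    rw [h2, ← Nat.card_congr (subgroupOfEquivOfLe hY).toEquiv, ← h1]
    congr 1
    rw [Nat.card_congr (subgroupOfEquivOfLe (show (zpowers w).subgroupOf M ≤ Y.subgroupOf M from
        comap_mono (zpowers_le.2 hwY))).toEquiv,
      Nat.card_congr (subgroupOfEquivOfLe ((zpowers_le.2 hwY).trans hY)).toEquiv,
      Nat.card_zpowers, hw]
  have hwt : w ∈ X ⊓ centralizer ({t} : Set G) :=
    ⟨hwX, mem_centralizer_singleton_iff.2 htw.eq.symm⟩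
  have hc1 := hcard _ (inf_le_left.trans hXM) hwt
  rw [← himg, hXt, hc] at hc1
  have hc2 : Nat.card ↥(Xb ⊓ centralizer ({tb} : Set (M ⧸ (zpowers w).subgroupOf M))) = c := by omega
  rw [hc2] at hsq
  rw [hsq] at hmod
  -- `r ∣ c² - 1` and `r ∣ 9c² - 1` force `r ∣ 8`
  have hcpos : 0 < c := Nat.pos_of_ne_zero fun h0 => by
    rw [h0, mul_zero] at hc; exact Nat.card_pos.ne' hc
  have h1 : r ∣ c ^ 2 - 1 := (Nat.modEq_iff_dvd' (Nat.one_le_pow _ _ hcpos)).1 hmod.symm
  have h8 : r ∣ 8 := by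
    have h2 := Nat.dvd_sub hdiv (h1.mul_left 9)
    have h3 : 1 ≤ c ^ 2 := Nat.one_le_pow _ _ hcpos
    rwa [show (3 * c) ^ 2 - 1 - 9 * (c ^ 2 - 1) = 8 by rw [mul_pow]; omega] at h2
  have := (Nat.prime_dvd_prime_iff_eq hr Nat.prime_two).1 (hr.dvd_of_dvd_pow (show r ∣ 2 ^ 3 from h8))
  exact hr2 this

end Cfsg.Agent.H79.Ward
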