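import Cfsg.Agent.H29.Ward.Torus

/-!
# The frame for the fixed-point theorem

Facts on `PSL₂(q)` and the normalisation of a pair of commuting involutions of `G`.
-/

set_option autoImplicit false
set_option linter.unusedSectionVars false
set_option linter.style.haveILetI false

namespace Cfsg.Agent.H79.Ward

open Subgroup Cfsg.Agent Cfsg.Agent.Linear Cfsg.Agent.Linear.Dickson Cfsg.Agent.H29.Ward

section PSL

variable {F : Type} [Field F] [Fintype F]

local notation "P2" => Matrix.ProjectiveSpecialLinearGroup (Fin 2) F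
local notation "S2" => Matrix.SpecialLinearGroup (Fin 2) F
local notation "M2" => Matrix (Fin 2) (Fin 2) F

/-- Outside the involutions the centraliser is the torus. -/
theorem mem_cen_of_commute (hodd : Odd (Fintype.card F)) {x g : P2} (hx2 : x * x ≠ 1)
    (hg : Commute g x) : g ∈ cen x := by
  obtain ⟨x, rfl⟩ := proj_surjective x
  obtain ⟨g, rfl⟩ := proj_surjective g
  rw [mem_cen_proj, mem_centralizer_singleton_iff]
  have h : proj (g * x) = proj (x * g) := by rw [map_mul, map_mul]; exact hg.eq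
  rcases proj_eq_iff.1 h with e | e
  · exact e.symm
  exfalso
  have h2 : (2 : F) ≠ 0 := by
    intro h2
    obtain ⟨n, hp, hn⟩ := FiniteField.card F (ringChar F)
    have : ringChar F = 2 := (Nat.prime_dvd_prime_iff_eq hp Nat.prime_two).1 (by
      rw [← CharP.cast_eq_zero_iff F (ringChar F)]; exact_mod_cast h2)
    rw [hn, this] at hodd
    exact Nat.not_even_iff_odd.2 hodd (Nat.even_pow.2 ⟨even_two, n.pos.ne'⟩)
  -- `g x g⁻¹ = -x`, so the trace of `x` vanishes
  have h3 : (g : M2) * x * ((g⁻¹ : S2) : M2) = -(x : M2) := by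
    have e' : (x : M2) * g = -((g : M2) * x) := by
      have := congrArg (fun z : S2 => (z : M2)) e
      simpa using this
    rw [show (g : M2) * x = -((x : M2) * g) by rw [e', neg_neg], neg_mul, mul_assoc,
      ← Matrix.SpecialLinearGroup.coe_mul, mul_inv_cancel, Matrix.SpecialLinearGroup.coe_one,
      mul_one]
  have htr : (x : M2).trace = 0 := by
    have := congrArg Matrix.trace h3
    rw [Matrix.trace_mul_cycle, ← Matrix.SpecialLinearGroup.coe_mul, inv_mul_cancel,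
      Matrix.SpecialLinearGroup.coe_one, one_mul, Matrix.trace_neg] at this
    have h4 : 2 * (x : M2).trace = 0 := by linear_combination this
    exact (mul_eq_zero.1 h4).resolve_left h2
  apply hx2
  rw [← map_mul, proj_eq_one_iff]
  have hd := SL_det_two x
  rw [Matrix.trace_fin_two] at htr
  refine ⟨?_, ?_, ?_⟩ <;> simp [Matrix.mul_apply, Fin.sum_univ_two] <;>
    first
      | linear_combination ((x : M2) 0 1) * htr
      | linear_combination ((x : M2) 1 0) * htr
      | linear_combination ((x : M2) 0 0 - (x : M2) 1 1) * htr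

/-- The centraliser of an element of order three is odd unless three divides the torus. -/
theorem cen_three (h8 : Fintype.card F % 8 = 3 ∨ Fintype.card F % 8 = 5) {n : P2} {k : ℕ}
    (hk : Fintype.card F % 8 = 3 → 4 * k = Fintype.card F + 1)
    (hk' : Fintype.card F % 8 = 5 → 4 * k + 1 = Fintype.card F)
    (hk3 : ¬ 3 ∣ k) (hn : orderOf n = 3) :
    Odd (Nat.card (cen n)) ∧ 3 ∣ Nat.card (cen n) ∧ k ∣ Nat.card (cen n) ^ 2 - 1 := by
  have h3 : 3 ∣ Nat.card (cen n) := hn ▸ Subgroup.orderOf_dvd_natCard _ (mem_cen_self n)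
  have hn1 : n ≠ 1 := fun e => by rw [e, orderOf_one] at hn; omega
  obtain ⟨q, hq⟩ : ∃ q, q = Fintype.card F := ⟨_, rfl⟩
  rw [← hq] at h8 hk hk'
  by_cases hu : IsUni n
  · rw [card_cen_of_isUni hn1 hu, ← hq] at h3 ⊢
    refine ⟨Nat.odd_iff.2 (by omega), h3, ?_⟩
    rcases h8 with e | e
    · exact ⟨4 * (q - 1), by
        have := hk e
        obtain ⟨j, rfl⟩ : ∃ j, q = j + 1 := ⟨q - 1, by omega⟩
        rw [Nat.add_sub_cancel, show (j + 1) ^ 2 - 1 = j * (j + 2) by
          rw [Nat.sub_eq_of_eq_add]; ring]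
        rw [show j + 2 = 4 * k by omega]; ring⟩
    · exact ⟨4 * (q + 1), by
        have := hk' e
        subst this
        rw [show (4 * k + 1) ^ 2 - 1 = (4 * k + 2) * (4 * k) by rw [Nat.sub_eq_of_eq_add]; ring]
        ring⟩
  · have hd : Nat.gcd 2 (Fintype.card F - 1) = 2 := Nat.gcd_eq_left (by omega)
    obtain ⟨m, hm⟩ : ∃ m, m = Nat.card (cen n) := ⟨_, rfl⟩
    rw [← hm] at h3 ⊢
    have hcases : m = (q - 1) / 2 ∨ m = (q + 1) / 2 := by
      rcases card_cen_cases hu with e | e <;> rw [hd, ← hm, ← hq] at e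
      · exact Or.inl e
      · exact Or.inr e
    have hne : m ≠ 2 * k := fun e => hk3 ((Nat.Coprime.dvd_of_dvd_mul_left (by norm_num) (e ▸ h3)))
    have hm' : m + 1 = 2 * k ∨ m = 2 * k + 1 := by
      rcases h8 with e | e
      · have := hk e; omega
      · have := hk' e; omega
    have hk1 : Odd k := Nat.odd_iff.2 (by
      rcases h8 with e | e
      · have := hk e; omega
      · have := hk' e; omega)
    refine ⟨Nat.odd_iff.2 (by omega), h3, ?_⟩
    rcases hm' with e | e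
    · obtain ⟨j, rfl⟩ : ∃ j, m = j + 1 := ⟨m - 1, by omega⟩
      refine ⟨2 * j, ?_⟩
      rw [show (j + 1) ^ 2 - 1 = j * (j + 2) by rw [Nat.sub_eq_of_eq_add]; ring,
        show j + 2 = 2 * k by omega]; ring
    · subst e
      refine ⟨2 * (2 * k + 2), ?_⟩
      rw [show (2 * k + 1) ^ 2 - 1 = (2 * k + 2) * (2 * k) by rw [Nat.sub_eq_of_eq_add]; ring]
      ring

/-- One class of involutions in `PSL₂(q)`. -/
theorem psl_isConj (h5 : 5 ≤ Fintype.card F) (h8 : Fintype.card F % 8 = 3 ∨ Fintype.card F % 8 = 5)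
    {x y : P2} (hx1 : x ≠ 1) (hx : x * x = 1) (hy1 : y ≠ 1) (hy : y * y = 1) :
    ∃ g : P2, g * x * g⁻¹ = y := by
  haveI : Fact (Nat.Prime 2) := ⟨Nat.prime_two⟩
  have hL : H10.Walter.IsOddPSL P2 := ⟨F, inferInstance, inferInstance, h5, h8, ⟨MulEquiv.refl _⟩⟩
  have hp : ∀ {z : P2}, z ≠ 1 → z * z = 1 → IsPGroup 2 ↥(zpowers z) := fun {z} h1 h2 =>
    IsPGroup.of_card (n := 1) (by
      rw [Nat.card_zpowers, pow_one]; exact orderOf_eq_prime (by rw [pow_two, h2]) h1)
  obtain ⟨R, hR⟩ := (hp hx1 hx).exists_le_sylow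
  obtain ⟨R', hR'⟩ := (hp hy1 hy).exists_le_sylow
  obtain ⟨g, hg⟩ := MulAction.exists_smul_eq P2 R' R
  have hyR : g * y * g⁻¹ ∈ (R : Subgroup P2) := by
    rw [← hg, Sylow.coe_subgroup_smul]; exact ⟨y, hR' (mem_zpowers y), rfl⟩
  have hxR : x ∈ (R : Subgroup P2) := hR (mem_zpowers x)
  by_cases he : x = g * y * g⁻¹
  · exact ⟨g⁻¹, by rw [he]; group⟩
  haveI := S0276.result (F := F) rfl h8 R
  haveI : IsMulCommutative ↥(R : Subgroup P2) := IsKleinFour.isMulCommutative
  have hc : Commute x (g * y * g⁻¹) :=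
    congrArg Subtype.val (mul_comm' (a := (⟨x, hxR⟩ : ↥(R : Subgroup P2))) (b := ⟨_, hyR⟩))
  obtain ⟨n, -, hn, -⟩ := H29.Walter.exists_fuse hL hx1 hx
    (fun h => hy1 (conj_eq_one_iff.1 h)) (by
      rw [show g * y * g⁻¹ * (g * y * g⁻¹) = g * (y * y) * g⁻¹ by group, hy, mul_one, mul_inv_cancel])
    hc he
  refine ⟨g⁻¹ * n, ?_⟩
  rw [show g⁻¹ * n * x * (g⁻¹ * n)⁻¹ = g⁻¹ * (n * x * n⁻¹) * g by group, hn]; group

end PSL

variable {G : Type*} [Group G] [Finite G] {F : Type} [Field F] [Fintype F]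

local notation "P2" => Matrix.ProjectiveSpecialLinearGroup (Fin 2) F

/-- A frame: `s` centralises `f`, which cycles the three involutions of `⟨a, b⟩`. -/
structure Frame (F : Type) [Field F] [Fintype F] (s a b f : G) : Prop where
  hs : Hyp G F s
  ha : Hyp G F a
  sq_b : b * b = 1
  b_ne : b ≠ 1
  comm : Commute b a
  ne : b ≠ a
  sa : Commute s a
  sb : Commute s b
  sf : Commute s f
  out : s ∉ fourW a b
  fa : f * a * f⁻¹ = b
  fb : f * b * f⁻¹ = a * b
  three : orderOf f = 3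

theorem exists_frame {t : G} (h : Hyp G F t) : ∃ a b f : G, Frame F t a b f := by
  haveI : Fact (Nat.Prime 2) := ⟨Nat.prime_two⟩
  obtain ⟨e⟩ := h.iso
  obtain ⟨ht2, ht1⟩ := h.apply_self e
  obtain ⟨R⟩ : Nonempty (Sylow 2 P2) := inferInstance
  haveI hk := S0276.result (F := F) rfl h.mod_eight R
  haveI : Nontrivial ↥(R : Subgroup P2) := Finite.one_lt_card_iff_nontrivial.1 (by
    rw [IsKleinFour.card_four]; norm_num)
  obtain ⟨⟨x, hxR⟩, hx⟩ := exists_ne (1 : ↥(R : Subgroup P2))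
  obtain ⟨⟨y, hyR⟩, hy⟩ : ∃ z : ↥(R : Subgroup P2), z ≠ 1 ∧ z ≠ ⟨x, hxR⟩ := by
    classical
    haveI : Fintype ↥(R : Subgroup P2) := Fintype.ofFinite _
    by_contra hc
    simp only [not_exists, not_and, not_not] at hc
    have : Fintype.card ↥(R : Subgroup P2) ≤ 2 := by
      refine (Finset.card_le_card (t := {1, ⟨x, hxR⟩}) fun z _ => ?_).trans Finset.card_le_two
      rcases eq_or_ne z 1 with h1 | h1
      · simp [h1]
      · simp [hc z h1]
    rw [IsKleinFour.card_four'] at this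
    omega
  haveI : IsMulCommutative ↥(R : Subgroup P2) := IsKleinFour.isMulCommutative
  have hx2 : x * x = 1 := congrArg Subtype.val (IsKleinFour.mul_self (⟨x, hxR⟩ : ↥(R : Subgroup P2)))
  have hy2 : y * y = 1 := congrArg Subtype.val (IsKleinFour.mul_self (⟨y, hyR⟩ : ↥(R : Subgroup P2)))
  have hxy : Commute x y :=
    congrArg Subtype.val (mul_comm' (a := (⟨x, hxR⟩ : ↥(R : Subgroup P2))) (b := ⟨y, hyR⟩))
  have hx1 : x ≠ 1 := fun e => hx (Subtype.ext e)
  have hy1 : y ≠ 1 := fun e => hy.1 (Subtype.ext e)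
  have hxy' : x ≠ y := fun e => hy.2 (Subtype.ext e.symm)
  obtain ⟨n, hno, hnx, hny⟩ := H29.Walter.exists_fuse h.isOddPSL hx1 hx2 hy1 hy2 hxy hxy'
  have hnxy : n * (x * y) * n⁻¹ = x := by
    rw [show n * (x * y) * n⁻¹ = n * x * n⁻¹ * (n * y * n⁻¹) by group, hnx, hny, hxy.eq,
      ← mul_assoc, hy2, one_mul]
  have hn3 : n ^ 3 = 1 := by
    have cx : Commute (n ^ 3) x := mul_inv_eq_iff_eq_mul.1 (by
      rw [show n ^ 3 = n * (n * n) by rw [pow_succ', pow_two],
        show n * (n * n) * x * (n * (n * n))⁻¹ = n * (n * (n * x * n⁻¹) * n⁻¹) * n⁻¹ by group, hnx, hny, hnxy])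
    have cy : Commute (n ^ 3) y := mul_inv_eq_iff_eq_mul.1 (by
      rw [show n ^ 3 = n * (n * n) by rw [pow_succ', pow_two],
        show n * (n * n) * y * (n * (n * n))⁻¹ = n * (n * (n * y * n⁻¹) * n⁻¹) * n⁻¹ by group, hny, hnxy, hnx])
    refine H29.Walter.coprime_two_of_odd (Odd.of_dvd_nat hno (orderOf_pow_dvd 3)) ?_
    have hmem : n ^ 3 ∈ (R : Subgroup P2) := by
      rcases H29.Walter.centralizer_pair_le h.isOddPSL hx1 hx2 hy1 hy2 hxy hxy' cx cy with
        e | e | e | e <;> rw [e]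
      exacts [one_mem _, hxR, hyR, mul_mem hxR hyR]
    exact congrArg Subtype.val (IsKleinFour.mul_self (⟨_, hmem⟩ : ↥(R : Subgroup P2)))
  let ψ : P2 →* G := ((centralizer ({t} : Set G)).subtype.comp e.symm.toMonoidHom).comp
    (MonoidHom.inr _ _)
  have hψ : Function.Injective ψ := fun a b hab =>
    congrArg Prod.snd (e.symm.injective (Subtype.ext hab))
  have hψt : ∀ z : P2, Commute t (ψ z) := fun z =>
    (mem_centralizer_singleton_iff.1 (e.symm (1, z)).2).symm
  have hψne : ∀ z : P2, t ≠ ψ z := fun z he => by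
    have h1 : (⟨t, mem_centralizer_singleton_iff.2 rfl⟩ : centralizer ({t} : Set G)) = e.symm (1, z) :=
      Subtype.ext he
    have := congrArg (fun c => (e c).1) h1
    rw [MulEquiv.apply_symm_apply, ht1] at this
    exact zmod_two_ne_one this
  have hn1 : n ≠ 1 := fun e0 => hxy' (by rw [e0] at hnx; simpa using hnx)
  have hfo : orderOf (ψ n) = 3 := by
    haveI : Fact (Nat.Prime 3) := ⟨Nat.prime_three⟩
    rw [orderOf_injective ψ hψ]
    exact orderOf_eq_prime hn3 hn1
  have hao : orderOf (ψ x) = 2 := by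
    rw [orderOf_injective ψ hψ]; exact orderOf_eq_prime (by rw [pow_two, hx2]) hx1
  refine ⟨ψ x, ψ y, ψ n, h, h.of_invol hao, ?_, ?_, ?_, ?_, hψt x, hψt y, hψt n, ?_, ?_, ?_, hfo⟩
  · rw [← map_mul, hy2, map_one]
  · exact fun e0 => hy1 (hψ (e0.trans (map_one ψ).symm))
  · exact (hxy.map ψ).symm
  · exact fun e0 => hxy' (hψ e0).symm
  · intro hmem
    rcases H29.Walter.mem_closure_pair_cases (by rw [← map_mul, hx2, map_one])
      (by rw [← map_mul, hy2, map_one]) (hxy.map ψ) hmem with e0 | e0 | e0 | e0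
    · exact h.ne_one e0
    · exact hψne x e0
    · exact hψne y e0
    · exact hψne (x * y) (by rw [map_mul]; exact e0)
  · rw [← hnx, map_mul, map_mul, map_inv]
  · rw [← map_inv, ← map_mul, ← map_mul, hny, map_mul]

/-- An element centralising two commuting involutions centralises or inverts the torus. -/
theorem conj_eq_or_inv {t v : G} (h : Hyp G F t) (hv : v * v = 1) (hv1 : v ≠ 1)
    (hvt : Commute v t) (hne : v ≠ t) {g : G} (hgt : Commute g t) (hgv : Commute g v) :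
    (∀ y ∈ torusK t v, g * y * g⁻¹ = y) ∨ (∀ y ∈ torusK t v, g * y * g⁻¹ = y⁻¹) := by
  obtain ⟨e, vb, T, hvb1, hvb, hvbe, hT, -, -, -, -, -, -, hK⟩ := h.exists_model hv hv1 hvt hne
  set gc : centralizer ({t} : Set G) := ⟨g, mem_centralizer_singleton_iff.2 hgt.eq⟩
  have hgb : Commute (e gc).2 vb := by
    have h4 : gc * ⟨v, mem_centralizer_singleton_iff.2 hvt.eq⟩ =
        (⟨v, mem_centralizer_singleton_iff.2 hvt.eq⟩ : centralizer ({t} : Set G)) * gc :=
      Subtype.ext hgv.eq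
    have := congrArg (fun z => (e z).2) h4
    rw [map_mul, map_mul, Prod.snd_mul, Prod.snd_mul, hvbe] at this
    exact this
  have hN : (e gc).2 ∈ normalizer ((cen vb : Subgroup P2) : Set P2) := by
    rw [← H88.Walter.PSL.centralizer_eq h.odd hvb1 hvb, mem_centralizer_singleton_iff]
    exact hgb.eq
  have key : ∀ z : P2, g * (e.symm (1, z) : G) * g⁻¹ =
      (e.symm (1, (e gc).2 * z * (e gc).2⁻¹) : G) := by
    intro z
    have h1 : gc * e.symm (1, z) * gc⁻¹ = e.symm (1, (e gc).2 * z * (e gc).2⁻¹) := by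
      apply e.injective
      rw [map_mul, map_mul, map_inv, MulEquiv.apply_symm_apply, MulEquiv.apply_symm_apply]
      refine Prod.ext ?_ rfl
      show (e gc).1 * 1 * (e gc).1⁻¹ = 1
      rw [mul_one, mul_inv_cancel]
    exact congrArg Subtype.val h1
  rcases normalizer_cases (H88.Walter.PSL.not_isUni h.odd hvb1 hvb) (mem_normalizer_iff.1 hN) with
    hc | ⟨-, hi⟩
  · left
    rw [hK]
    rintro _ ⟨z, hz, rfl⟩
    show g * (e.symm (1, z) : G) * g⁻¹ = (e.symm (1, z) : G)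
    rw [key, cen_comm hvb1 hc (hT hz), mul_inv_cancel_right]
  · right
    rw [hK]
    rintro _ ⟨z, hz, rfl⟩
    show g * (e.symm (1, z) : G) * g⁻¹ = (e.symm (1, z) : G)⁻¹
    rw [key, hi z (hT hz), ← Subgroup.coe_inv, ← map_inv, Prod.inv_mk, inv_one]

theorem torusK_map {t v : G} (g : G) :
    (torusK t v).map (MulAut.conj g).toMonoidHom = torusK (g * t * g⁻¹) (g * v * g⁻¹) := by
  rw [torusK, torusK, MonoidHom.map_closure]
  congr 1
  ext x
  simp only [Set.mem_image, Set.mem_setOf_eq, mem_centralizer_pair, MulEquiv.coe_toMonoidHom,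
    MulAut.conj_apply]
  constructor
  · rintro ⟨y, ⟨⟨h1, h2⟩, ho⟩, rfl⟩
    refine ⟨⟨?_, ?_⟩, ?_⟩
    · simpa using h1.map (MulAut.conj g)
    · simpa using h2.map (MulAut.conj g)
    · rwa [← MulAut.conj_apply, MulEquiv.orderOf_eq]
  · rintro ⟨⟨h1, h2⟩, ho⟩
    refine ⟨g⁻¹ * x * g, ⟨⟨?_, ?_⟩, ?_⟩, by group⟩
    · simpa [mul_assoc] using h1.map (MulAut.conj g⁻¹)
    · simpa [mul_assoc] using h2.map (MulAut.conj g⁻¹)
    · rw [show g⁻¹ * x * g = MulAut.conj g⁻¹ x by simp, MulEquiv.orderOf_eq]; exact ho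

/-- Any two commuting involutions are carried to `a` and one of `b`, `ab`. -/
theorem exists_move {s a b f t v : G} (hF : Frame F s a b f) (h : Hyp G F t) (hv : v * v = 1)
    (hv1 : v ≠ 1) (hvt : Commute v t) (hne : v ≠ t) :
    ∃ g : G, g * t * g⁻¹ = a ∧ (g * v * g⁻¹ = b ∨ g * v * g⁻¹ = a * b) := by
  obtain ⟨g, hg⟩ := isConj_iff.1 (h.isConj_invol hF.ha.invol)
  have hv' : Commute (g * v * g⁻¹) a := by
    have := hvt.map (MulAut.conj g)
    simpa [hg] using this
  have hv2 : g * v * g⁻¹ * (g * v * g⁻¹) = 1 := by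
    rw [show g * v * g⁻¹ * (g * v * g⁻¹) = g * (v * v) * g⁻¹ by group, hv, mul_one, mul_inv_cancel]
  have hv1' : g * v * g⁻¹ ≠ 1 := fun e => hv1 (conj_eq_one_iff.1 e)
  have hne' : g * v * g⁻¹ ≠ a := fun e => hne (by
    rw [← hg] at e; exact mul_left_cancel (mul_right_cancel e))
  obtain ⟨e⟩ := hF.ha.iso
  obtain ⟨ha2, ha1⟩ := hF.ha.apply_self e
  set ac : centralizer ({a} : Set G) := ⟨a, mem_centralizer_singleton_iff.2 rfl⟩
  set bc : centralizer ({a} : Set G) := ⟨b, mem_centralizer_singleton_iff.2 hF.comm.eq⟩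
  set vc : centralizer ({a} : Set G) := ⟨g * v * g⁻¹, mem_centralizer_singleton_iff.2 hv'.eq⟩
  have hsnd : ∀ z : centralizer ({a} : Set G), (e z).2 = 1 → z = 1 ∨ z = ac := fun z hz => by
    rcases zmod_two_cases (e z).1 with h1 | h1
    · exact Or.inl (e.injective (by rw [map_one]; exact Prod.ext h1 hz))
    · exact Or.inr (e.injective (Prod.ext (h1.trans ha1.symm) (hz.trans ha2.symm)))
  have hinv : ∀ z : centralizer ({a} : Set G), (z : G) * z = 1 → (z : G) ≠ 1 → (z : G) ≠ a →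
      (e z).2 ≠ 1 ∧ (e z).2 * (e z).2 = 1 := fun z h2 h1 h3 => by
    refine ⟨fun h0 => (hsnd z h0).elim (fun h' => h1 (by rw [h']; rfl)) (fun h' => h3 (by rw [h'])),
      ?_⟩
    rw [← Prod.snd_mul, ← map_mul, show z * z = 1 from Subtype.ext h2, map_one, Prod.snd_one]
  obtain ⟨hb1, hb2⟩ := hinv bc hF.sq_b hF.b_ne hF.ne
  obtain ⟨hw1, hw2⟩ := hinv vc hv2 hv1' hne'
  obtain ⟨c, hc⟩ := psl_isConj hF.ha.five hF.ha.mod_eight hw1 hw2 hb1 hb2
  refine ⟨(e.symm (1, c) : G) * g, ?_, ?_⟩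
  · rw [show (e.symm (1, c) : G) * g * t * ((e.symm (1, c) : G) * g)⁻¹ =
      (e.symm (1, c) : G) * (g * t * g⁻¹) * (e.symm (1, c) : G)⁻¹ by group, hg]
    exact mul_inv_eq_iff_eq_mul.2 (mem_centralizer_singleton_iff.1 (e.symm (1, c)).2)
  · rw [show (e.symm (1, c) : G) * g * v * ((e.symm (1, c) : G) * g)⁻¹ =
      ((e.symm (1, c) * vc * (e.symm (1, c))⁻¹ : centralizer ({a} : Set G)) : G) by
        simp only [Subgroup.coe_mul, Subgroup.coe_inv, vc]; group]
    set z := e.symm (1, c) * vc * (e.symm (1, c))⁻¹ with hz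
    have hzb : (e (z * bc⁻¹)).2 = 1 := by
      rw [hz, map_mul, map_mul, map_mul, map_inv, map_inv, MulEquiv.apply_symm_apply]
      show c * (e vc).2 * c⁻¹ * ((e bc).2)⁻¹ = 1
      rw [hc, mul_inv_cancel]
    rcases hsnd _ hzb with h0 | h0
    · left; rw [mul_inv_eq_one.1 h0]
    · right
      rw [show z = ac * bc by rw [← h0, inv_mul_cancel_right]]; rfl

end Cfsg.Agent.H79.Ward
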