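import Cfsg.Agent.H29.Ward.Pair
import Cfsg.Agent.H79.Ward.Frame
import Cfsg.Agent.H79.Ward.FixCore
import Cfsg.Agent.H63.GW.Shape

/-!
# `w` moves every nontrivial element of the torus

Unless `|K| = 3`, no nontrivial element of `K = O(C(⟨t, v⟩))` commutes with an element that cycles
`t, v, tv`.
-/

set_option autoImplicit false
set_option linter.unusedSectionVars false
set_option linter.style.haveILetI false

namespace Cfsg.Agent.H79.Ward

open Subgroup Cfsg.Agent Cfsg.Agent.Linear.Dickson Cfsg.Agent.H29.Ward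

variable {G : Type*} [Group G] [Finite G] {F : Type} [Field F] [Fintype F]

local notation "P2" => Matrix.ProjectiveSpecialLinearGroup (Fin 2) F

theorem alt5_centralizer_three : ∀ a b : alternatingGroup (Fin 5), a * a * a = 1 → a ≠ 1 →
    a * b = b * a → b = 1 ∨ b = a ∨ b = a * a := by decide +kernel

theorem alt5_orders : ∀ a : alternatingGroup (Fin 5),
    a * a = 1 ∨ a * a * a = 1 ∨ a * a * a * a * a = 1 := by decide +kernel

theorem ne_one_of_odd {x : G} (ho : Odd (orderOf x)) (hx : x ≠ 1) : x * x ≠ 1 :=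
  fun h => hx (H29.Walter.coprime_two_of_odd ho h)

namespace Frame

variable {s a b f : G} (hF : Frame F s a b f)
include hF

theorem facts : IsCyclic ↥(torusK a b) ∧ Odd (Nat.card ↥(torusK a b)) ∧
    torusK a b ≤ centralizer ({a, b} : Set G) ∧
      (Fintype.card F % 8 = 3 → 4 * Nat.card ↥(torusK a b) = Fintype.card F + 1) ∧
      (Fintype.card F % 8 = 5 → 4 * Nat.card ↥(torusK a b) + 1 = Fintype.card F) :=
  hF.ha.torusK_facts hF.sq_b hF.b_ne hF.comm hF.ne

theorem odd_of_mem {y : G} (hy : y ∈ torusK a b) : Odd (orderOf y) :=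
  Odd.of_dvd_nat hF.facts.2.1 (Subgroup.orderOf_dvd_natCard _ hy)

/-- `s` inverts the torus. -/
theorem inverts {y : G} (hy : y ∈ torusK a b) : s * y * s⁻¹ = y⁻¹ := by
  rcases conj_eq_or_inv hF.ha hF.sq_b hF.b_ne hF.comm hF.ne hF.sa hF.sb with h | h
  · rcases eq_or_ne y 1 with rfl | hy1
    · simp
    obtain ⟨r, hr, k, hk, he⟩ := hF.ha.mem_of_commute_self hF.sq_b hF.b_ne hF.comm hF.ne hy hy1
      (mul_inv_eq_iff_eq_mul.1 (h y hy)) hF.sa
    exfalso
    refine hF.out ?_
    refine hF.ha.mem_four_of_sq hF.sq_b hF.b_ne hF.comm hF.ne ?_ hF.hs.mul_self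
    rw [he]
    exact mul_mem (mem_sup_left hr) (mem_sup_right hk)
  · exact h y hy

theorem f_not_commute : ¬ Commute f a := fun h => hF.ne (by
  rw [← hF.fa, h.eq, mul_inv_cancel_right])

theorem f_fab : f * (a * b) * f⁻¹ = a := by
  rw [show f * (a * b) * f⁻¹ = f * a * f⁻¹ * (f * b * f⁻¹) by group, hF.fa, hF.fb, ← mul_assoc,
    hF.comm.eq, mul_assoc, hF.sq_b, mul_one]

theorem f_four {x : G} (hx : x ∈ fourW a b) : f⁻¹ * x * f ∈ fourW a b := by
  have ha : a ∈ fourW a b := subset_closure (Or.inl rfl)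
  have hb : b ∈ fourW a b := subset_closure (Or.inr rfl)
  rcases H29.Walter.mem_closure_pair_cases hF.ha.mul_self hF.sq_b hF.comm.symm hx with
    e | e | e | e <;> rw [e]
  · simp [one_mem]
  · have h1 : f⁻¹ * a * f = a * b := by
      conv_lhs => rw [← hF.f_fab]
      group
    rw [h1]
    exact mul_mem ha hb
  · have h1 : f⁻¹ * b * f = a := by
      conv_lhs => rw [← hF.fa]
      group
    rw [h1]
    exact ha
  · rw [show f⁻¹ * (a * b) * f = f⁻¹ * (f * b * f⁻¹) * f by rw [hF.fb],
      show f⁻¹ * (f * b * f⁻¹) * f = b by group]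
    exact hb

/-- An element normalising the four group acts on a fixed element of the torus by `±1`. -/
theorem normalizer_acts {y : G} (hy : y ∈ torusK a b) (hfy : Commute f y) {g : G}
    (hg : ∀ x ∈ fourW a b, g * x * g⁻¹ ∈ fourW a b) : g * y * g⁻¹ = y ∨ g * y * g⁻¹ = y⁻¹ := by
  obtain ⟨i, -, hi⟩ := hF.ha.normalizer_four_cases hF.sq_b hF.b_ne hF.comm hF.ne hF.fa hF.fb
    (fun x hx => hF.f_four hx) hg
  obtain ⟨c1, c2⟩ := mem_centralizer_pair.1 hi
  have hp : Commute (f ^ i) y := hfy.pow_left i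
  have key : ∀ z : G, Commute (f ^ i) z → (f ^ i)⁻¹ * g * y * ((f ^ i)⁻¹ * g)⁻¹ = z →
      g * y * g⁻¹ = z := fun z hz he => by
    calc g * y * g⁻¹ = f ^ i * ((f ^ i)⁻¹ * g * y * ((f ^ i)⁻¹ * g)⁻¹) * (f ^ i)⁻¹ := by group
      _ = z := by rw [he, hz.eq, mul_inv_cancel_right]
  rcases conj_eq_or_inv hF.ha hF.sq_b hF.b_ne hF.comm hF.ne c1 c2 with h | h
  · exact Or.inl (key y hp (h y hy))
  · exact Or.inr (key y⁻¹ hp.inv_right (h y hy))

section Fixed

variable {y : G} (hy : y ∈ torusK a b) (hy1 : y ≠ 1) (hfy : Commute f y)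
include hy hy1 hfy

theorem cfg : TorusCfg ((fourW a b).subgroupOf (centralizer ({y} : Set G)))
    ((torusK a b).subgroupOf (centralizer ({y} : Set G))) :=
  hF.ha.torusCfg hF.sq_b hF.b_ne hF.comm hF.ne hy hy1

theorem f_not_mem : (⟨f, mem_centralizer_singleton_iff.2 hfy.eq⟩ : centralizer ({y} : Set G)) ∉
    (fourW a b).subgroupOf (centralizer ({y} : Set G)) ⊔
      (torusK a b).subgroupOf (centralizer ({y} : Set G)) := by
  intro h
  obtain ⟨x, hx, k, hk, he⟩ := (hF.cfg hy hy1 hfy).mem_sup h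
  have he' : f = (x : G) * k := congrArg Subtype.val he
  have hak : Commute a (k : G) :=
    hF.ha.commute_four_torusK hF.sq_b hF.b_ne hF.comm hF.ne (subset_closure (Or.inl rfl)) hk
  have hax : Commute a (x : G) := by
    rcases H29.Walter.mem_closure_pair_cases hF.ha.mul_self hF.sq_b hF.comm.symm
      (show (x : G) ∈ fourW a b from hx) with e | e | e | e <;> rw [e]
    exacts [Commute.one_right a, hF.comm.symm,
      (Commute.refl a).mul_right hF.comm.symm]
  exact hF.f_not_commute (he' ▸ (hax.mul_right hak).symm)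

/-- Odd elements centralising `f` and `y` lie in `K⟨f⟩`. -/
theorem exists_mul_pow_mem {g : G} (hgo : Odd (orderOf g)) (hgy : Commute g y)
    (hgf : Commute g f) : ∃ i : ℕ, g * f ^ i ∈ torusK a b := by
  have hc := hF.cfg hy hy1 hfy
  set M := centralizer ({y} : Set G)
  set fm : M := ⟨f, mem_centralizer_singleton_iff.2 hfy.eq⟩
  set gm : M := ⟨g, mem_centralizer_singleton_iff.2 hgy.eq⟩
  have hfo : orderOf fm = 3 := by rw [← Subgroup.orderOf_coe]; exact hF.three
  have hcomm : Commute gm fm := Subtype.ext hgf.eq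
  have hodd : ∀ i : ℕ, Odd (orderOf (gm * fm ^ i)) := fun i =>
    Odd.of_dvd_nat (by
      rw [Nat.odd_mul, ← Subgroup.orderOf_coe gm]
      exact ⟨hgo, Odd.of_dvd_nat (by rw [hfo]; decide) (orderOf_pow_dvd i)⟩)
      (hcomm.pow_right i).orderOf_mul_dvd_mul_orderOf
  have hfnot := hF.f_not_mem hy hy1 hfy
  rcases hc.cases with h | ⟨hKn, ⟨hWKn, h12⟩ | ⟨⟨_, ⟨e⟩⟩, -⟩⟩
  · exact absurd (h ▸ mem_top fm) hfnot
  · haveI := hWKn
    set WK := (fourW a b).subgroupOf M ⊔ (torusK a b).subgroupOf M
    have h3 : Nat.card (M ⧸ WK) = 3 := by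
      rw [← index_eq_card]
      have hrel : ((torusK a b).subgroupOf M).relIndex WK * WK.index = 12 := by
        rw [relIndex_mul_index le_sup_right, h12]
      haveI := hKn
      have hK : ((torusK a b).subgroupOf M).relIndex WK =
          ((torusK a b).subgroupOf M).relIndex ((fourW a b).subgroupOf M) := by
        rw [show WK = (torusK a b).subgroupOf M ⊔ (fourW a b).subgroupOf M from sup_comm _ _,
          relIndex_sup_left]
      have hW4 : ((torusK a b).subgroupOf M).relIndex ((fourW a b).subgroupOf M) = 4 := by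
        haveI := hc.klein
        rw [← inf_relIndex_right, show (torusK a b).subgroupOf M ⊓ (fourW a b).subgroupOf M = ⊥ from
          inf_eq_bot_of_coprime (by rw [IsKleinFour.card_four (G := ↥((fourW a b).subgroupOf M))]
                                    exact (Nat.coprime_two_right.2 hc.odd).pow_right 2),
          relIndex_bot_left, IsKleinFour.card_four]
      rw [hK, hW4] at hrel
      omega
    haveI : Fact (Nat.Prime 3) := ⟨Nat.prime_three⟩
    have hgen : zpowers (fm : M ⧸ WK) = ⊤ := zpowers_eq_top_of_prime_card h3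
      fun h => hfnot ((QuotientGroup.eq_one_iff fm).1 h)
    obtain ⟨i, hi⟩ := mem_powers_iff_mem_zpowers.2 (hgen ▸ mem_top ((gm : M ⧸ WK)⁻¹))
    refine ⟨i, ?_⟩
    have hmem : gm * fm ^ i ∈ WK := by
      rw [← QuotientGroup.eq_one_iff, QuotientGroup.mk_mul, QuotientGroup.mk_pow]
      show (gm : M ⧸ WK) * (fm : M ⧸ WK) ^ i = 1
      rw [show (fm : M ⧸ WK) ^ i = (gm : M ⧸ WK)⁻¹ from hi, mul_inv_cancel]
    exact hc.mem_K_of_odd hmem (hodd i)
  · haveI := hKn
    set π := QuotientGroup.mk' ((torusK a b).subgroupOf M)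
    have hf1 : e (π fm) ≠ 1 := fun h => hfnot (mem_sup_right (by
      rw [MulEquiv.map_eq_one_iff] at h
      exact (QuotientGroup.eq_one_iff fm).1 h))
    have hf3 : e (π fm) * e (π fm) * e (π fm) = 1 := by
      rw [← map_mul, ← map_mul, ← map_mul, ← map_mul,
        show fm * fm * fm = fm ^ 3 by rw [pow_succ, pow_two], ← hfo, pow_orderOf_eq_one, map_one,
        map_one]
    have hfg : e (π fm) * e (π gm) = e (π gm) * e (π fm) := by
      rw [← map_mul, ← map_mul, ← map_mul, ← map_mul, hcomm.eq]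
    obtain ⟨j, hj⟩ : ∃ j : ℕ, e (π gm) = e (π fm) ^ j := by
      rcases alt5_centralizer_three _ _ hf3 hf1 hfg with h | h | h
      · exact ⟨0, by rw [h, pow_zero]⟩
      · exact ⟨1, by rw [h, pow_one]⟩
      · exact ⟨2, by rw [h, pow_two]⟩
    refine ⟨2 * j, ?_⟩
    have h0 : π (gm * fm ^ (2 * j)) = 1 := by
      apply e.injective
      rw [map_mul, map_pow, map_mul, map_pow, map_one, hj, ← pow_add,
        show j + 2 * j = 3 * j by omega, pow_mul, pow_succ, pow_two, hf3, one_pow]
    exact mem_subgroupOf.1 ((QuotientGroup.eq_one_iff _).1 h0)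

/-- Odd elements normalising `⟨y⟩` centralise `y`. -/
theorem commute_of_conj_mem {g : G} (hgo : Odd (orderOf g))
    (hg : g * y * g⁻¹ ∈ zpowers y) : Commute g y := by
  haveI : Fact (Nat.Prime 2) := ⟨Nat.prime_two⟩
  have hc := hF.cfg hy hy1 hfy
  set M := centralizer ({y} : Set G)
  obtain ⟨k, hk⟩ := mem_zpowers_iff.1 hg
  have hgM : ∀ x : G, x ∈ M → g * x * g⁻¹ ∈ M := by
    intro x hx
    rw [mem_centralizer_singleton_iff] at hx ⊢
    -- `g x g⁻¹` commutes with `g y g⁻¹`, a generator of `⟨y⟩`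
    have h1 : Commute (g * x * g⁻¹) (g * y * g⁻¹) := by
      have := (show Commute x y from hx).map (MulAut.conj g)
      simpa using this
    have hyg : y ∈ zpowers (g * y * g⁻¹) := by
      have heq : zpowers (g * y * g⁻¹) = zpowers y :=
        eq_of_le_of_card_ge (zpowers_le.2 hg) (by
          rw [Nat.card_zpowers, Nat.card_zpowers, ← MulAut.conj_apply, MulEquiv.orderOf_eq])
      rw [heq]; exact mem_zpowers y
    obtain ⟨j, hj⟩ := mem_zpowers_iff.1 hyg
    rw [← hj]
    exact (h1.zpow_right j).eq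
  have hWM : fourW a b ≤ M := fun x hx => mem_centralizer_singleton_iff.2
    (hF.ha.commute_four_torusK hF.sq_b hF.b_ne hF.comm hF.ne hx hy).eq
  obtain ⟨P, hP⟩ := hc.exists_sylow
  set W' := ((fourW a b).map (MulAut.conj g).toMonoidHom).subgroupOf M
  have hW'le : (fourW a b).map (MulAut.conj g).toMonoidHom ≤ M := by
    rintro _ ⟨x, hx, rfl⟩; exact hgM x (hWM hx)
  have hW'card : Nat.card W' = Nat.card ↥(P : Subgroup M) := by
    rw [hP, Nat.card_congr (subgroupOfEquivOfLe hW'le).toEquiv,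
      Nat.card_congr (subgroupOfEquivOfLe hWM).toEquiv,
      card_map_of_injective (MulAut.conj g).injective]
  let P' : Sylow 2 M := Sylow.ofCard W' (by rw [hW'card]; exact P.card_eq_multiplicity)
  obtain ⟨m, hm⟩ := MulAction.exists_smul_eq M P' P
  have hnorm : ∀ x ∈ fourW a b, (m : G) * g * x * ((m : G) * g)⁻¹ ∈ fourW a b := by
    intro x hx
    have h1 : (⟨g * x * g⁻¹, hgM x (hWM hx)⟩ : M) ∈ (P' : Subgroup M) := by
      show _ ∈ W'
      exact mem_subgroupOf.2 ⟨x, hx, rfl⟩
    have h2 : m * ⟨g * x * g⁻¹, hgM x (hWM hx)⟩ * m⁻¹ ∈ (P : Subgroup M) := by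
      rw [← hm, Sylow.coe_subgroup_smul]
      exact ⟨_, h1, rfl⟩
    rw [hP, mem_subgroupOf] at h2
    rw [show (m : G) * g * x * ((m : G) * g)⁻¹ = m * (g * x * g⁻¹) * (m : G)⁻¹ by group]
    exact h2
  have hmy : Commute (m : G) y := mem_centralizer_singleton_iff.1 m.2
  have hgy : g * y * g⁻¹ = y ∨ g * y * g⁻¹ = y⁻¹ := by
    rcases hF.normalizer_acts hy hfy hnorm with h | h
    · left
      calc g * y * g⁻¹ = (m : G)⁻¹ * ((m : G) * g * y * ((m : G) * g)⁻¹) * m := by group
        _ = y := by rw [h, hmy.inv_left.eq, inv_mul_cancel_right]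
    · right
      calc g * y * g⁻¹ = (m : G)⁻¹ * ((m : G) * g * y * ((m : G) * g)⁻¹) * m := by group
        _ = y⁻¹ := by rw [h, hmy.inv_left.inv_right.eq, inv_mul_cancel_right]
  rcases hgy with h | h
  · exact mul_inv_eq_iff_eq_mul.1 h
  · exfalso
    have h2 : Commute (g * g) y := mul_inv_eq_iff_eq_mul.1 (by
      rw [show g * g * y * (g * g)⁻¹ = g * (g * y * g⁻¹) * g⁻¹ by group, h,
        show g * y⁻¹ * g⁻¹ = (g * y * g⁻¹)⁻¹ by group, h, inv_inv])
    obtain ⟨j, hj⟩ := hgo
    have h3 : Commute g y := by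
      have h4 : g = (g * g) ^ (j + 1) := by
        rw [← pow_two, ← pow_mul, show 2 * (j + 1) = orderOf g + 1 by omega, pow_succ,
          pow_orderOf_eq_one, one_mul]
      rw [h4]; exact h2.pow_left _
    rw [h3.eq, mul_inv_cancel_right] at h
    exact ne_one_of_odd (hF.odd_of_mem hy) hy1 (eq_inv_iff_mul_eq_one.1 h)

end Fixed

/-- **`f` moves every nontrivial element of the torus**, unless `|K| = 3`. -/
theorem eq_one_of_commute (h3 : Nat.card ↥(torusK a b) ≠ 3) {y : G} (hy : y ∈ torusK a b)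
    (hfy : Commute f y) : y = 1 := by
  classical
  by_contra hy1
  haveI : Fact (Nat.Prime 2) := ⟨Nat.prime_two⟩
  obtain ⟨hcyc, hKodd, hKcen, hk3', hk5'⟩ := hF.facts
  haveI := hcyc
  set K := torusK a b with hKdef
  set Kw := K ⊓ centralizer ({f} : Set G) with hKwdef
  haveI : IsCyclic ↥Kw := isCyclic_of_injective (inclusion inf_le_left) (inclusion_injective inf_le_left)
  obtain ⟨e⟩ := hF.hs.iso
  obtain ⟨hs2, hs1⟩ := hF.hs.apply_self e
  set fc : centralizer ({s} : Set G) := ⟨f, mem_centralizer_singleton_iff.2 hF.sf.eq.symm⟩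
  set n := (e fc).2 with hn
  have hfc3 : orderOf (e fc) = 3 := by rw [MulEquiv.orderOf_eq, ← Subgroup.orderOf_coe]; exact hF.three
  have hfst : ∀ z : Multiplicative (ZMod 2) × P2, Odd (orderOf z) → z.1 = 1 := fun z hz => by
    obtain ⟨j, hj⟩ := hz
    have := congrArg Prod.fst (pow_orderOf_eq_one z)
    rwa [Prod.pow_fst, hj, pow_succ, pow_mul, pow_two, zmod_two_mul_self, one_pow, one_mul] at this
  have hef : e fc = (1, n) := Prod.ext (hfst _ (by rw [hfc3]; decide)) rfl
  have hn3 : orderOf n = 3 := by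
    rw [← hfc3, hef]
    rw [Prod.orderOf]
    simp
  have hn1 : n ≠ 1 := fun h => by rw [h, orderOf_one] at hn3; omega
  have hn2 : n * n ≠ 1 := ne_one_of_odd (by rw [hn3]; decide) hn1
  by_cases hdiv : 3 ∣ Nat.card ↥K
  · -- `f` lies in a conjugate of the torus
    haveI : Fact (Nat.Prime 3) := ⟨Nat.prime_three⟩
    have hd : Nat.gcd 2 (Fintype.card F - 1) = 2 := Nat.gcd_eq_left (by
      have := hF.ha.mod_eight; omega)
    have h3n : 3 ∣ Nat.card (cen n) := hn3 ▸ Subgroup.orderOf_dvd_natCard _ (mem_cen_self n)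
    have hu : ¬ IsUni n := fun hu => by
      rw [card_cen_of_isUni hn1 hu] at h3n
      rcases hF.ha.mod_eight with e8 | e8
      · have := hk3' e8; omega
      · have := hk5' e8; omega
    have h2c : 2 ∣ Nat.card (cen n) := by
      rcases card_cen_cases hu with e' | e' <;> rw [hd] at e' <;>
        rcases hF.ha.mod_eight with e8 | e8 <;> first
          | (have := hk3' e8; omega)
          | (have := hk5' e8; omega)
    obtain ⟨⟨vb, hvb⟩, hvbo⟩ := exists_prime_orderOf_dvd_card' (G := cen n) 2 h2c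
    have hvb2 : vb * vb = 1 := by
      have := congrArg Subtype.val (orderOf_dvd_iff_pow_eq_one.1 hvbo.dvd :
        (⟨vb, hvb⟩ : cen n) ^ 2 = 1)
      simpa [pow_two] using this
    have hvb1 : vb ≠ 1 := fun h => by
      subst h
      rw [show (⟨1, hvb⟩ : cen n) = 1 from rfl, orderOf_one] at hvbo; omega
    set v' : G := (e.symm (1, vb) : G)
    have hv's : Commute v' s := mem_centralizer_singleton_iff.1 (e.symm (1, vb)).2
    have hv'2 : v' * v' = 1 := by
      rw [← Subgroup.coe_mul, ← map_mul, Prod.mk_mul_mk, hvb2, one_mul]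
      rw [show ((1, 1) : Multiplicative (ZMod 2) × P2) = 1 from rfl, map_one, Subgroup.coe_one]
    have hv'1 : v' ≠ 1 := fun h => hvb1 (by
      have h0 : e.symm (1, vb) = 1 := Subtype.ext h
      rw [MulEquiv.map_eq_one_iff] at h0
      exact congrArg Prod.snd h0)
    have hv's' : v' ≠ s := fun h => by
      have h0 : e.symm (1, vb) = ⟨s, mem_centralizer_singleton_iff.2 rfl⟩ := Subtype.ext h
      have h1 := congrArg (fun z => (e z).1) h0
      simp only [MulEquiv.apply_symm_apply] at h1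
      rw [hs1] at h1
      exact zmod_two_ne_one h1.symm
    have hfv : Commute f v' := by
      have h0 : fc * e.symm (1, vb) = e.symm (1, vb) * fc := by
        apply e.injective
        rw [map_mul, map_mul, MulEquiv.apply_symm_apply, hef]
        exact Prod.ext rfl (cen_comm hn1 (mem_cen_self n) hvb)
      exact congrArg Subtype.val h0
    set K' := torusK s v'
    have hfK' : f ∈ K' := subset_closure
      ⟨mem_centralizer_pair.2 ⟨hF.sf.symm, hfv⟩, by rw [hF.three]; decide⟩
    have hf1 : f ≠ 1 := fun h => by have := hF.three; rw [h, orderOf_one] at this; omega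
    have hc' := hF.hs.torusCfg hv'2 hv'1 hv's hv's' hfK' hf1
    set M := centralizer ({f} : Set G) with hMdef
    have hsM : s ∈ M := mem_centralizer_singleton_iff.2 hF.sf.eq
    have hsK' : ∀ k ∈ K', Commute k s := fun k hk =>
      (mem_centralizer_pair.1 ((hF.hs.torusK_facts hv'2 hv'1 hv's hv's').2.2.1 hk)).1
    have hsW : (⟨s, hsM⟩ : M) ∈ (fourW s v').subgroupOf M :=
      mem_subgroupOf.2 (subset_closure (Or.inl rfl))
    have hKwM : ∀ z ∈ Kw, z ∈ M := fun z hz => hz.2
    -- an element of `Kw` in `W' K'` is trivial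
    have hout : ∀ z, (hz : z ∈ Kw) → (⟨z, hKwM z hz⟩ : M) ∈
        (fourW s v').subgroupOf M ⊔ K'.subgroupOf M → z = 1 := by
      intro z hz hmem
      have hzo : Odd (orderOf z) := hF.odd_of_mem hz.1
      have hzK := hc'.mem_K_of_odd hmem (by rw [← Subgroup.orderOf_coe]; exact hzo)
      have h0 := hF.inverts hz.1
      rw [← (hsK' z hzK).eq, mul_inv_cancel_right] at h0
      exact H29.Walter.coprime_two_of_odd hzo (eq_inv_iff_mul_eq_one.1 h0)
    have hyw : y ∈ Kw := ⟨hy, mem_centralizer_singleton_iff.2 hfy.eq.symm⟩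
    rcases hc'.cases with h | ⟨hKn, ⟨hWKn, -⟩ | ⟨⟨_, ⟨ε⟩⟩, hcenK⟩⟩
    · exact hy1 (hout y hyw (h ▸ mem_top _))
    · -- `[y, s] = y²` lies in `W' K'`
      haveI := hWKn
      have hyy : y * y ∈ Kw := Kw.mul_mem hyw hyw
      refine ne_one_of_odd (hF.odd_of_mem hy) hy1 (hout _ hyy ?_)
      have h1 : (⟨y * y, hKwM _ hyy⟩ : M) =
          ⟨y, hKwM y hyw⟩ * ⟨s, hsM⟩ * (⟨y, hKwM y hyw⟩ : M)⁻¹ * ⟨s, hsM⟩⁻¹ := by
        refine Subtype.ext ?_
        show y * y = y * s * y⁻¹ * s⁻¹
        rw [mul_assoc y s, mul_assoc y, show s * y⁻¹ * s⁻¹ = (s * y * s⁻¹)⁻¹ by group,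
          hF.inverts hy, inv_inv]
      rw [h1]
      exact mul_mem (hWKn.conj_mem _ (mem_sup_left hsW) _) (inv_mem (mem_sup_left hsW))
    · haveI := hKn
      -- `Kw` embeds in `A₅`
      let j : ↥Kw →* alternatingGroup (Fin 5) :=
        ε.toMonoidHom.comp ((QuotientGroup.mk' _).comp (Subgroup.inclusion (show Kw ≤ M from hKwM)))
      have hj : ∀ z : Kw, j z = 1 → z = 1 := by
        rintro ⟨z, hz⟩ h0
        refine Subtype.ext (hout z hz (mem_sup_right ?_))
        have h1 := (MulEquiv.map_eq_one_iff ε).1 h0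
        exact (QuotientGroup.eq_one_iff _).1 h1
      -- the element of order three
      obtain ⟨⟨x, hxK⟩, hx3'⟩ := exists_prime_orderOf_dvd_card' (G := ↥K) 3 hdiv
      have hx3 : orderOf x = 3 := by rw [← hx3', ← Subgroup.orderOf_coe]
      have hx1 : x ≠ 1 := fun h => by rw [h, orderOf_one] at hx3; omega
      have hfx : Commute f x := by
        have hxK' : f * x * f⁻¹ ∈ K := by
          have : K.map (MulAut.conj f).toMonoidHom = K := by
            rw [hKdef, torusK_map, hF.fa, hF.fb]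
            refine torusK_congr (le_antisymm ?_ ?_) <;> intro g hg <;>
              rw [mem_centralizer_pair] at hg ⊢
            · refine ⟨?_, hg.1⟩
              have := hg.2.mul_right hg.1
              rwa [mul_assoc, hF.sq_b, mul_one] at this
            · exact ⟨hg.2, hg.1.mul_right hg.2⟩
          rw [← this]
          exact ⟨x, hxK, rfl⟩
        have hm : (⟨_, hxK'⟩ : K) ∈ zpowers (⟨x, hxK⟩ : K) := by
          rw [← zpowers_eq_of_card (a := (⟨_, hxK'⟩ : K)) (b := ⟨x, hxK⟩) (by
            rw [← Subgroup.orderOf_coe, ← Subgroup.orderOf_coe]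
            exact (MulEquiv.orderOf_eq (MulAut.conj f) x))]
          exact mem_zpowers _
        obtain ⟨i, hi⟩ := mem_powers_iff_mem_zpowers.2 hm
        have hi' : x ^ i = f * x * f⁻¹ := congrArg Subtype.val hi
        have hi3 : i % 3 = 1 ∨ i % 3 = 2 ∨ i % 3 = 0 := by omega
        have hxi : x ^ i = x ^ (i % 3) := by rw [← hx3, pow_mod_orderOf]
        rcases hi3 with h | h | h
        · rw [hxi, h, pow_one] at hi'; exact mul_inv_eq_iff_eq_mul.1 hi'.symm
        · exfalso
          rw [hxi, h] at hi'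
          have e1 : f * (f * (f * x * f⁻¹) * f⁻¹) * f⁻¹ = x ^ 8 := by
            rw [← hi', ← conj_pow, ← hi', ← pow_mul, ← conj_pow, ← hi', ← pow_mul]
          have e2 : f * (f * (f * x * f⁻¹) * f⁻¹) * f⁻¹ = x := by
            rw [show f * (f * (f * x * f⁻¹) * f⁻¹) * f⁻¹ = f ^ 3 * x * (f ^ 3)⁻¹ by
              rw [pow_succ, pow_two]; group, ← hF.three, pow_orderOf_eq_one]
            simp
          have h7 : x ^ 7 = 1 := by
            rw [e2, pow_succ] at e1; exact right_eq_mul.1 e1
          have := orderOf_dvd_of_pow_eq_one h7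
          rw [hx3] at this; omega
        · exfalso
          rw [hxi, h, pow_zero] at hi'
          exact hx1 (conj_eq_one_iff.1 hi'.symm)
      have hxw : x ∈ Kw := ⟨hxK, mem_centralizer_singleton_iff.2 hfx.eq.symm⟩
      -- `|Kw| = 3`
      have hKw : Nat.card ↥Kw = 3 := by
        obtain ⟨g0, hg0⟩ := IsCyclic.exists_generator (α := Kw)
        have ho := orderOf_eq_card_of_forall_mem_zpowers hg0
        have hjo : orderOf (j g0) = orderOf g0 :=
          orderOf_injective j ((injective_iff_map_eq_one j).2 hj) g0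
        have h3d : 3 ∣ Nat.card ↥Kw := hx3 ▸ Subgroup.orderOf_dvd_natCard _ hxw
        have hd : orderOf g0 ∣ 2 ∨ orderOf g0 ∣ 3 ∨ orderOf g0 ∣ 5 := by
          rw [← hjo]
          rcases alt5_orders (j g0) with h | h | h
          · exact Or.inl (orderOf_dvd_of_pow_eq_one (by rw [pow_two, h]))
          · exact Or.inr (Or.inl (orderOf_dvd_of_pow_eq_one (by rw [pow_succ, pow_two, h])))
          · exact Or.inr (Or.inr (orderOf_dvd_of_pow_eq_one (by
              rw [pow_succ, pow_succ, pow_succ, pow_two, h])))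
        rw [ho] at hd
        rcases hd with h | h | h
        · have := h3d.trans h; omega
        · exact Nat.dvd_antisymm h h3d
        · have := h3d.trans h; omega
      -- `C(x)` is conjugate to `C(f)`, so `f` centralises `K`
      obtain ⟨g, hga, hgb⟩ := exists_move hF hF.hs hv'2 hv'1 hv's hv's'
      have hmapK : K'.map (MulAut.conj g).toMonoidHom = K := by
        show (torusK s v').map _ = _
        rw [torusK_map, hga]
        rcases hgb with h | h <;> rw [h]
        refine torusK_congr (le_antisymm ?_ ?_) <;> intro z hz <;>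
          rw [mem_centralizer_pair] at hz ⊢
        · refine ⟨hz.1, ?_⟩
          have := hz.1.mul_right hz.2
          rwa [← mul_assoc, hF.ha.mul_self, one_mul] at this
        · exact ⟨hz.1, hz.1.mul_right hz.2⟩
      have hgf : g * f * g⁻¹ ∈ K := hmapK ▸ ⟨f, hfK', rfl⟩
      have hgfx : zpowers (⟨_, hgf⟩ : K) = zpowers (⟨x, hxK⟩ : K) :=
        zpowers_eq_of_card (by
          rw [← Subgroup.orderOf_coe, ← Subgroup.orderOf_coe]
          show orderOf (g * f * g⁻¹) = orderOf x
          rw [← MulAut.conj_apply, MulEquiv.orderOf_eq, hF.three, hx3])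
      have hfK : ∀ k ∈ K, Commute f k := by
        intro k hk
        obtain ⟨k', hk', rfl⟩ := hmapK.ge hk
        -- `g⁻¹ f g` centralises `f`
        have hgx : Commute f (g * f * g⁻¹) := by
          obtain ⟨i, hi⟩ := mem_zpowers_iff.1 (hgfx ▸ mem_zpowers (⟨_, hgf⟩ : K))
          rw [show g * f * g⁻¹ = x ^ i from (congrArg Subtype.val hi).symm]
          exact hfx.zpow_right i
        have hf' : g⁻¹ * f * g ∈ M := by
          rw [hMdef, mem_centralizer_singleton_iff]
          calc g⁻¹ * f * g * f = g⁻¹ * (f * (g * f * g⁻¹)) * g := by group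
            _ = f * (g⁻¹ * f * g) := by rw [hgx.eq]; group
        have hkM : k' ∈ M :=
          mem_centralizer_singleton_iff.2 (by
            have : IsMulCommutative ↥K' := by
              haveI := (hF.hs.torusK_facts hv'2 hv'1 hv's hv's').1
              infer_instance
            exact congrArg Subtype.val (this.is_comm.comm ⟨k', hk'⟩ ⟨f, hfK'⟩))
        have h0 := mem_center_iff.1 (hcenK (show (⟨k', hkM⟩ : M) ∈ K'.subgroupOf M from hk'))
          ⟨_, hf'⟩
        have h1 : g⁻¹ * f * g * k' = k' * (g⁻¹ * f * g) := congrArg Subtype.val h0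
        show Commute f (g * k' * g⁻¹)
        calc f * (g * k' * g⁻¹) = g * (g⁻¹ * f * g * k') * g⁻¹ := by group
          _ = g * k' * g⁻¹ * f := by rw [h1]; group
      refine h3 ?_
      rw [← hKw, show Kw = K from le_antisymm inf_le_left
        fun k hk => ⟨hk, mem_centralizer_singleton_iff.2 (hfK k hk).eq.symm⟩]
  · -- the counting
    obtain ⟨hmo, h3m, hkm⟩ := cen_three hF.ha.mod_eight hk3' hk5' hdiv hn3
    set M := centralizer ({f} : Set G) with hMdef
    have hsM : s ∈ M := mem_centralizer_singleton_iff.2 hF.sf.eq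
    -- the Sylow subgroup of `M` has order two
    obtain ⟨P, hP⟩ := (IsPGroup.of_card (p := 2) (G := zpowers (⟨s, hsM⟩ : M)) (n := 1) (by
      rw [Nat.card_zpowers, pow_one, ← Subgroup.orderOf_coe]; exact hF.hs.invol)).exists_le_sylow
    have hPC : ∀ z : M, z ∈ (P : Subgroup M) → (z : G) ∈ centralizer ({s} : Set G) := fun z hz =>
      mem_centralizer_singleton_iff.2 (hF.hs.comm_two (P.isPGroup'.map M.subtype)
        (mem_map_of_mem M.subtype hz) (mem_map_of_mem M.subtype (hP (mem_zpowers _)))).eq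
    have hzfst : ∀ z : M, z ∈ (P : Subgroup M) → z = 1 ∨ z = ⟨s, hsM⟩ := by
      intro z hz
      set zc : centralizer ({s} : Set G) := ⟨z, hPC z hz⟩
      have hzn : (e zc).2 ∈ cen n := by
        refine mem_cen_of_commute hF.ha.odd hn2 ?_
        have h0 : zc * fc = fc * zc := Subtype.ext (mem_centralizer_singleton_iff.1 z.2)
        have := congrArg (fun c => (e c).2) h0
        show (e zc).2 * n = n * (e zc).2
        simpa [hef] using this
      have hz2 : (z : G) * z = 1 := hF.hs.sq_of_two (P.isPGroup'.map M.subtype)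
        (mem_map_of_mem M.subtype hz)
      have h2 : (e zc).2 = 1 := by
        refine H29.Walter.coprime_two_of_odd (Odd.of_dvd_nat hmo
          (Subgroup.orderOf_dvd_natCard _ hzn)) ?_
        rw [← Prod.snd_mul, ← map_mul, show zc * zc = 1 from Subtype.ext hz2, map_one, Prod.snd_one]
      rcases zmod_two_cases (e zc).1 with h1 | h1
      · left
        have : zc = 1 := e.injective (by rw [map_one]; exact Prod.ext h1 h2)
        exact Subtype.ext (congrArg (fun c : centralizer ({s} : Set G) => (c : G)) this)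
      · right
        have : zc = ⟨s, mem_centralizer_singleton_iff.2 rfl⟩ :=
          e.injective (Prod.ext (h1.trans hs1.symm) (h2.trans hs2.symm))
        exact Subtype.ext (congrArg (fun c : centralizer ({s} : Set G) => (c : G)) this)
    have hPs : (P : Subgroup M) = zpowers (⟨s, hsM⟩ : M) := le_antisymm (fun z hz => by
      rcases hzfst z hz with rfl | rfl
      exacts [one_mem _, mem_zpowers _]) hP
    haveI : IsCyclic ↥(P : Subgroup M) := hPs ▸ inferInstance
    obtain ⟨Q, N, hN, hQN⟩ := H63.GW.hasNormalPComplement_of_cyclic P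
    have hQ2 : Nat.card ↥(Q : Subgroup M) = 2 := by
      rw [Q.card_eq_multiplicity, ← P.card_eq_multiplicity, hPs, Nat.card_zpowers,
        ← Subgroup.orderOf_coe]
      exact hF.hs.invol
    have hNodd : Odd (Nat.card ↥N) := by
      rw [Nat.odd_iff, ← Nat.two_dvd_ne_zero]
      intro hd
      have h1 := hQN.card_mul_card
      have h2 := (Q : Subgroup M).card_mul_index
      rw [← h1, hQ2, mul_comm (Nat.card ↥N)] at h2
      exact Q.not_dvd_index (Nat.eq_of_mul_eq_mul_left two_pos h2 ▸ hd)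
    have hNmem : ∀ z : M, Odd (orderOf z) → z ∈ N := by
      intro z hz
      rw [← QuotientGroup.eq_one_iff]
      refine orderOf_eq_one_iff.1 (Nat.eq_one_of_dvd_coprimes (Nat.coprime_two_left.2 hz).symm
        (orderOf_map_dvd (QuotientGroup.mk' N) z) ?_)
      have : Nat.card (M ⧸ N) = 2 := by rw [← index_eq_card, hQN.symm.index_eq_card, hQ2]
      exact this ▸ orderOf_dvd_natCard _
    set O := N.map M.subtype
    have hO : ∀ {d : G}, d ∈ O ↔ Commute d f ∧ Odd (orderOf d) := fun {d} => by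
      constructor
      · rintro ⟨z, hz, rfl⟩
        exact ⟨mem_centralizer_singleton_iff.1 z.2,
          Odd.of_dvd_nat hNodd ((orderOf_map_dvd M.subtype z).trans
            (Subgroup.orderOf_dvd_natCard N hz))⟩
      · rintro ⟨h1, h2⟩
        exact ⟨⟨d, mem_centralizer_singleton_iff.2 h1.eq⟩,
          hNmem _ (by rw [← Subgroup.orderOf_coe]; exact h2), rfl⟩
    -- the centraliser of `s` in `O`
    let ψ : P2 →* G := ((centralizer ({s} : Set G)).subtype.comp e.symm.toMonoidHom).comp
      (MonoidHom.inr _ _)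
    have hψ : Function.Injective ψ := fun a b hab =>
      congrArg Prod.snd (e.symm.injective (Subtype.ext hab))
    have hψf : ψ n = f := by
      show (e.symm (1, n) : G) = f
      rw [← hef, MulEquiv.symm_apply_apply]
    have hOs : O ⊓ centralizer ({s} : Set G) = (cen n).map ψ := by
      refine le_antisymm ?_ ?_
      · rintro d ⟨hd, hds⟩
        obtain ⟨hdf, hdo⟩ := hO.1 hd
        set dc : centralizer ({s} : Set G) := ⟨d, hds⟩
        have h1 : (e dc).1 = 1 := hfst _ (by
          rw [MulEquiv.orderOf_eq, ← Subgroup.orderOf_coe]; exact hdo)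
        refine ⟨(e dc).2, mem_cen_of_commute hF.ha.odd hn2 ?_, ?_⟩
        · have h0 : dc * fc = fc * dc := Subtype.ext hdf.eq
          have := congrArg (fun c => (e c).2) h0
          show (e dc).2 * n = n * (e dc).2
          simpa [hef] using this
        · show (e.symm (1, (e dc).2) : G) = d
          rw [show ((1, (e dc).2) : Multiplicative (ZMod 2) × P2) = e dc from Prod.ext h1.symm rfl,
            MulEquiv.symm_apply_apply]
      · rintro _ ⟨z, hz, rfl⟩
        refine ⟨hO.2 ⟨?_, ?_⟩, (e.symm (1, z)).2⟩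
        · rw [← hψf]
          exact (show Commute z n from cen_comm hn1 hz (mem_cen_self n)).map ψ
        · exact Odd.of_dvd_nat hmo ((orderOf_map_dvd ψ z).trans (Subgroup.orderOf_dvd_natCard _ hz))
    obtain ⟨c, hc⟩ := h3m
    set r := (orderOf y).minFac
    have hr : r.Prime := Nat.minFac_prime (fun h => hy1 (orderOf_eq_one_iff.1 h))
    set x := y ^ (orderOf y / r)
    have hxr : orderOf x = r := orderOf_pow_orderOf_div (orderOf_pos y).ne' (Nat.minFac_dvd _)
    have hxw : x ∈ Kw :=
      Kw.pow_mem ⟨hy, mem_centralizer_singleton_iff.2 hfy.eq.symm⟩ _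
    have hKwO : Kw ≤ O := fun z hz => hO.2
      ⟨mem_centralizer_singleton_iff.1 hz.2, hF.odd_of_mem hz.1⟩
    have hdvdK : Nat.card ↥Kw ∣ Nat.card ↥K := Subgroup.card_dvd_of_le inf_le_left
    have hcop : (Nat.card (cen n)).Coprime (Nat.card ↥K) := by
      refine Nat.coprime_of_dvd fun p hp h1 h2 => hp.ne_one (Nat.dvd_one.1 ?_)
      obtain ⟨i, hi⟩ := h2.trans hkm
      obtain ⟨l, hl⟩ := h1.trans (dvd_pow_self (Nat.card (cen n)) two_ne_zero)
      have hpos : 1 ≤ Nat.card (cen n) ^ 2 := Nat.one_le_pow _ _ Nat.card_pos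
      have h4 := Nat.dvd_sub (⟨l, hl⟩ : p ∣ Nat.card (cen n) ^ 2) (⟨i, hi⟩ : p ∣ _)
      rwa [Nat.sub_sub_self hpos] at h4
    refine false_of_fixed (t := s) (w := f) (x := x) (r := r) (c := c) O Kw hF.hs.mul_self hF.sf
      hF.three (fun d hd => (hO.1 hd).1) (hO.2 ⟨Commute.refl f, by rw [hF.three]; decide⟩) ?_
      (by rw [card_map_of_injective M.subtype_injective]; exact hNodd) hKwO ?_
      (fun h => hdiv (h.trans hdvdK)) ?_ ?_ ?_ ?_ hxw hxr hr ?_
    · intro g hg d hd
      obtain ⟨hd1, hd2⟩ := hO.1 hd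
      refine hO.2 ⟨(hg.mul_left hd1).mul_left hg.inv_left, ?_⟩
      rw [← MulAut.conj_apply, MulEquiv.orderOf_eq]; exact hd2
    · intro z hz
      have hsi : s⁻¹ = s := inv_eq_of_mul_eq_one_right hF.hs.mul_self
      have := hF.inverts hz.1
      rwa [hsi] at this
    · rw [hOs, card_map_of_injective hψ, hc]
    · rw [← hc]; exact hcop.coprime_dvd_right hdvdK
    · intro z hz hz1 g hg hgz
      obtain ⟨hgf, hgo⟩ := hO.1 hg
      obtain ⟨i, hi⟩ := hF.exists_mul_pow_mem hz.1 hz1
        (mem_centralizer_singleton_iff.1 hz.2 : Commute z f).symm hgo hgz hgf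
      exact ⟨i, hi, mem_centralizer_singleton_iff.2
        (hgf.mul_left ((Commute.refl f).pow_left i)).eq⟩
    · intro z hz hz1 g hg hgz
      exact hF.commute_of_conj_mem hz.1 hz1
        (mem_centralizer_singleton_iff.1 hz.2 : Commute z f).symm (hO.1 hg).2 hgz
    · rw [← hc]
      exact (hxr ▸ Subgroup.orderOf_dvd_natCard _ hxw).trans (hdvdK.trans hkm)

end Frame

/-- **`w` acts without fixed points on the torus** unless `|K| = 3`. -/
theorem fix_free {t v w : G} (h : Hyp G F t) (hv : v * v = 1) (hv1 : v ≠ 1) (hvt : Commute v t)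
    (hne : v ≠ t) (hwt : w * t * w⁻¹ = v) (hwv : w * v * w⁻¹ = t * v)
    (h3 : Nat.card ↥(torusK t v) ≠ 3) {y : G} (hy : y ∈ torusK t v)
    (hwy : w * y * w⁻¹ = y) : y = 1 := by
  obtain ⟨a, b, f, hF⟩ := exists_frame h
  obtain ⟨g, hga, hgb⟩ := exists_move hF h hv hv1 hvt hne
  have hK : (torusK t v).map (MulAut.conj g).toMonoidHom = torusK a b := by
    rw [torusK_map, hga]
    rcases hgb with h' | h' <;> rw [h']
    refine torusK_congr (le_antisymm ?_ ?_) <;> intro z hz <;> rw [mem_centralizer_pair] at hz ⊢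
    · refine ⟨hz.1, ?_⟩
      have := hz.1.mul_right hz.2
      rwa [← mul_assoc, hF.ha.mul_self, one_mul] at this
    · exact ⟨hz.1, hz.1.mul_right hz.2⟩
  have h3' : Nat.card ↥(torusK a b) ≠ 3 := by
    rwa [← hK, card_map_of_injective (MulAut.conj g).injective]
  set y' := g * y * g⁻¹ with hy'
  set w' := g * w * g⁻¹ with hw'
  have hy'K : y' ∈ torusK a b := hK ▸ ⟨y, hy, rfl⟩
  have hwy' : w' * y' * w'⁻¹ = y' := by
    rw [show w' * y' * w'⁻¹ = g * (w * y * w⁻¹) * g⁻¹ by rw [hw', hy']; group, hwy]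
  have hwa : w' * a * w'⁻¹ = g * v * g⁻¹ := by
    rw [hw', ← hga, show g * w * g⁻¹ * (g * t * g⁻¹) * (g * w * g⁻¹)⁻¹ = g * (w * t * w⁻¹) * g⁻¹ by
      group, hwt]
  have ha : a ∈ fourW a b := subset_closure (Or.inl rfl)
  have hb : b ∈ fourW a b := subset_closure (Or.inr rfl)
  have hgv : g * v * g⁻¹ ∈ fourW a b := by
    rcases hgb with h' | h' <;> rw [h']
    exacts [hb, mul_mem ha hb]
  have hwgv : w' * (g * v * g⁻¹) * w'⁻¹ ∈ fourW a b := by
    rw [show w' * (g * v * g⁻¹) * w'⁻¹ = g * (w * v * w⁻¹) * g⁻¹ by rw [hw']; group, hwv,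
      show g * (t * v) * g⁻¹ = g * t * g⁻¹ * (g * v * g⁻¹) by group, hga]
    exact mul_mem ha hgv
  have hN : ∀ x ∈ fourW a b, w' * x * w'⁻¹ ∈ fourW a b := by
    have hb' : w' * b * w'⁻¹ ∈ fourW a b := by
      rcases hgb with h' | h'
      · rwa [h'] at hwgv
      · have := mul_mem ((hwa ▸ hgv) : w' * a * w'⁻¹ ∈ fourW a b) hwgv
        rwa [h', show w' * a * w'⁻¹ * (w' * (a * b) * w'⁻¹) = w' * (a * a * b) * w'⁻¹ by group,
          hF.ha.mul_self, one_mul] at this
    intro x hx
    induction hx using Subgroup.closure_induction with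
    | mem z hz =>
      rcases hz with rfl | rfl
      · rw [hwa]; exact hgv
      · exact hb'
    | one => simp [one_mem]
    | mul p q _ _ hp hq =>
      rw [show w' * (p * q) * w'⁻¹ = w' * p * w'⁻¹ * (w' * q * w'⁻¹) by group]
      exact mul_mem hp hq
    | inv p _ hp =>
      rw [show w' * p⁻¹ * w'⁻¹ = (w' * p * w'⁻¹)⁻¹ by group]
      exact inv_mem hp
  obtain ⟨i, hi3, hi⟩ := hF.ha.normalizer_four_cases hF.sq_b hF.b_ne hF.comm hF.ne hF.fa hF.fb
    (fun x hx => hF.f_four hx) hN
  have hi0 : i ≠ 0 := by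
    rintro rfl
    rw [pow_zero, inv_one, one_mul] at hi
    have h2 : w' * a * w'⁻¹ = a := mul_inv_eq_iff_eq_mul.2 (mem_centralizer_pair.1 hi).1.eq
    rw [hwa] at h2
    exact hne (by rw [← hga] at h2; exact mul_left_cancel (mul_right_cancel h2))
  obtain ⟨c1, c2⟩ := mem_centralizer_pair.1 hi
  have hfi : f ^ i * ((f ^ i)⁻¹ * w' * y' * ((f ^ i)⁻¹ * w')⁻¹) * (f ^ i)⁻¹ = y' := by
    rw [show f ^ i * ((f ^ i)⁻¹ * w' * y' * ((f ^ i)⁻¹ * w')⁻¹) * (f ^ i)⁻¹ = w' * y' * w'⁻¹ by
      group, hwy']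
  have hf3 : f ^ 3 = 1 := hF.three ▸ pow_orderOf_eq_one f
  have hcomm : Commute f y' := by
    have hp : Commute (f ^ i) y' := by
      rcases conj_eq_or_inv hF.ha hF.sq_b hF.b_ne hF.comm hF.ne c1 c2 with hc | hc
      · rw [hc y' hy'K] at hfi
        exact mul_inv_eq_iff_eq_mul.1 hfi
      · rw [hc y' hy'K] at hfi
        -- an element of order three inverts `y'`
        set φ := f ^ i with hφ
        have hφ3 : φ ^ 3 = 1 := by rw [hφ, ← pow_mul, mul_comm, pow_mul, hf3, one_pow]
        have h1 : φ * y' * φ⁻¹ = y'⁻¹ := by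
          conv_rhs => rw [← hfi]
          group
        have h3'' : φ ^ 3 * y' * (φ ^ 3)⁻¹ = y'⁻¹ := by
          rw [pow_succ, pow_two, show φ * φ * φ * y' * (φ * φ * φ)⁻¹ =
              φ * (φ * (φ * y' * φ⁻¹) * φ⁻¹) * φ⁻¹ by group, h1,
            show φ * y'⁻¹ * φ⁻¹ = (φ * y' * φ⁻¹)⁻¹ by group, h1, inv_inv, h1]
        rw [hφ3, one_mul, inv_one, mul_one] at h3''
        rw [H29.Walter.coprime_two_of_odd (hF.odd_of_mem hy'K) (eq_inv_iff_mul_eq_one.1 h3'')]
        exact Commute.one_right _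
    interval_cases i
    · exact absurd rfl hi0
    · rwa [pow_one] at hp
    · have := hp.pow_left 2
      rwa [← pow_mul, pow_succ, hf3, one_mul] at this
  exact conj_eq_one_iff.1 (hF.eq_one_of_commute h3' hy'K hcomm)

end Cfsg.Agent.H79.Ward
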