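import Cfsg.Agent.H29.Ward.Glue
import Cfsg.Agent.H79.Ward.FixFree

/-!
# The frame of Ward's theorem

An involution `v ≠ t` centralising `t`, the torus pair of `⟨t, v⟩` and the section data of `t`, with
`w` fixed point free on the torus.
-/

set_option autoImplicit false
set_option linter.unusedSectionVars false

namespace Cfsg.Agent.H79.Ward

open Subgroup Cfsg.Agent Cfsg.Agent.H29.Ward

universe u

variable {G : Type u} [Group G] [Finite G] {F : Type} [Field F] [Fintype F]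

theorem exists_four {t : G} (h : Hyp G F t) :
    ∃ v : G, v * v = 1 ∧ v ≠ 1 ∧ Commute v t ∧ v ≠ t := by
  obtain ⟨a, b, f, hF⟩ := exists_frame h
  refine ⟨a, hF.ha.mul_self, hF.ha.ne_one, hF.sa.symm, fun e => hF.out ?_⟩
  rw [← e]
  exact subset_closure (Or.inl rfl)

/-- `11 ≤ q` once `q` is neither `3` nor `5`. -/
theorem eleven_le {t : G} (h : Hyp G F t) (h5 : Fintype.card F ≠ 5) : 11 ≤ Fintype.card F := by
  have := h.mod_eight
  have := h.five
  omega

/-- `w` is fixed point free on the torus of a frame with `|K| ≠ 3`. -/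
theorem fpf_of_frame {t v : G} (h : Hyp G F t) (hv : v * v = 1) (hv1 : v ≠ 1)
    (hvt : Commute v t) (hne : v ≠ t) (f : H29.Ward.Frame G F t v)
    (h3 : Nat.card ↥(torusK t v) ≠ 3) {k : G} (hk : k ∈ f.P.K)
    (hwk : f.P.w * k * f.P.w⁻¹ = k) : k = 1 :=
  fix_free h hv hv1 hvt hne f.rot_t f.rot_v h3 (f.K_eq ▸ hk) hwk

/-- A frame at `t` with `w` fixed point free on the torus, given that `|K| = 3` is impossible. -/
theorem exists_frame_fpf {t : G} (h : Hyp G F t)
    (hE : ∀ v : G, v * v = 1 → v ≠ 1 → Commute v t → v ≠ t → Nat.card ↥(torusK t v) ≠ 3) :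
    ∃ v : G, v * v = 1 ∧ v ≠ 1 ∧ Commute v t ∧ v ≠ t ∧ ∃ f : H29.Ward.Frame G F t v,
      ∀ k ∈ f.P.K, f.P.w * k * f.P.w⁻¹ = k → k = 1 := by
  obtain ⟨v, hv, hv1, hvt, hne⟩ := exists_four h
  obtain ⟨f⟩ := h.exists_frame hv hv1 hvt hne
  exact ⟨v, hv, hv1, hvt, hne, f,
    fun _ hk hwk => fpf_of_frame h hv hv1 hvt hne f (hE v hv hv1 hvt hne) hk hwk⟩

end Cfsg.Agent.H79.Ward
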