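import Cfsg.Agent.H29.Ward.Equations

/-!
# The degrees in the main case

`MainEquations` gives, besides the parameters of `ree_of_mainCase`, the signed degrees of the rows:
`A = -(q² - q + 1)`, `D = q³`, `y = q A` and `3 (B - B')² = q (q² - 1)²`, with `q = Q`.
-/

set_option autoImplicit false
set_option linter.unusedSectionVars false

namespace Cfsg.Agent.H79.Ward

open Cfsg.Agent Cfsg.Agent.H29.Ward
open Cfsg.Agent.H84.Ward (TData)

universe u

variable {G : Type u} [Group G] [Fintype G] {F : Type} [Field F] [Fintype F]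

local notation "P2" => Matrix.ProjectiveSpecialLinearGroup (Fin 2) F

/-- The signed degrees of the main case. -/
theorem degrees_of_main {t : G} (h : Hyp G F t) (h11 : 11 ≤ Fintype.card F) (D : TData G P2)
    [Fintype P2] {A B B' D' y : ℤ}
    (hM : H64.Ward.MainEquations (signedQ F) (kval D (signedQ F)) A B B' D' y) :
    signedQ F = Fintype.card F ∧
      A = -((Fintype.card F : ℤ) ^ 2 - Fintype.card F + 1) ∧ y = (Fintype.card F : ℤ) * A ∧
      D' = (Fintype.card F : ℤ) ^ 3 ∧ B + B' = 1 + A ∧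
      3 * (B - B') ^ 2 =
        (Fintype.card F : ℤ) * (((Fintype.card F : ℤ) - 1) * ((Fintype.card F : ℤ) + 1)) ^ 2 := by
  obtain ⟨m, hm, hqm, hG⟩ := ree_of_mainCase h h11 D ⟨A, B, B', D', y, hM⟩
  have hQ : signedQ F = (Fintype.card F : ℤ) := by
    have h8 : ∀ k : ℕ, 3 ^ (2 * k + 1) % 8 = 3 := fun k => by
      rw [pow_succ, pow_mul, Nat.mul_mod, Nat.pow_mod]; norm_num
    rw [signedQ, if_pos (hqm ▸ h8 m)]
  obtain ⟨hA, hy0, hD0, hX, hB, hB', hsum, hBB, h₀, h₁, hexc, hy⟩ := hM
  rw [hQ] at h₀ h₁ hexc hy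
  obtain ⟨-, e1, e2, e3, -, e5⟩ := H84.Ward.four_eq_finish
    (Q := (Fintype.card F : ℤ)) (g := (Nat.card G : ℤ))
    (by simp only [Int.natAbs_natCast]; omega) (by omega)
    (by
      have : (0 : ℤ) < Nat.card G := by exact_mod_cast Nat.card_pos
      have : (0 : ℤ) < Fintype.card F := by exact_mod_cast (by omega : 0 < Fintype.card F)
      positivity) hA hy0 hD0 hX hB hB' hsum hBB (kval D (Fintype.card F : ℤ)) (by
      have hcard : 2 * Nat.card P2 = Fintype.card F * (Fintype.card F ^ 2 - 1) :=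
        H56.CTwoAb.card_psl_two_odd (by have := h.mod_eight; omega)
      have hc : (2 * (Nat.card P2 : ℚ)) =
          (Fintype.card F : ℚ) * ((Fintype.card F : ℚ) ^ 2 - 1) := by
        have : ((2 * Nat.card P2 : ℕ) : ℚ) =
            ((Fintype.card F * (Fintype.card F ^ 2 - 1) : ℕ) : ℚ) := by rw [hcard]
        rw [Nat.cast_mul, Nat.cast_mul, Nat.cast_sub (Nat.one_le_pow _ _ (by omega))] at this
        push_cast at this
        exact this
      push_cast
      rw [kval_mul, hc, Int.sign_eq_one_of_pos (by exact_mod_cast (by omega : 0 < Fintype.card F))]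
      push_cast; ring)
    h₀ h₁ hexc hy
  exact ⟨hQ, e1, e2, e3, hBB, e5⟩

end Cfsg.Agent.H79.Ward
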