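import Cfsg.Agent.S0448
import Cfsg.Agent.S0252
import Cfsg.Agent.S0253

/-!
# Ward's theorem for `q = 4, 5`
-/

set_option autoImplicit false

namespace Cfsg.Agent.H79.Ward

open Subgroup Cfsg.Agent

/-- For `q = 4` or `5` the group has the order of Janko's first group. -/
theorem isJ1_of_four_five {G : Type*} [Group G] [Finite G] [IsSimpleGroup G]
    (hab : ∀ P : Sylow 2 G, ∀ a b : P, a * b = b * a) {F : Type*} [Field F] [Fintype F]
    (hF : Fintype.card F = 4 ∨ Fintype.card F = 5) (t : G) (ht : orderOf t = 2)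
    (hC : Nonempty (centralizer ({t} : Set G) ≃*
      Multiplicative (ZMod 2) × Matrix.ProjectiveSpecialLinearGroup (Fin 2) F)) :
    Cfsg.IsJ1 G := by
  haveI : Fact (Nat.Prime 2) := ⟨Nat.prime_two⟩
  obtain ⟨P, hP⟩ := (IsPGroup.of_card (p := 2) (G := zpowers t) (n := 1) (by
    rw [Nat.card_zpowers, ht, pow_one])).exists_le_sylow
  have htP : t ∈ (P : Subgroup G) := hP (mem_zpowers t)
  obtain ⟨e⟩ := hC
  obtain ⟨a⟩ : Nonempty (Matrix.ProjectiveSpecialLinearGroup (Fin 2) F ≃* alternatingGroup (Fin 5)) := by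
    rcases hF with h | h
    · exact S0252.result h
    · exact S0253.result h
  exact S0448.result t
    ⟨ht, P, htP, fun x hx => congrArg Subtype.val (hab P ⟨x, hx⟩ ⟨t, htP⟩)⟩
    (e.trans ((MulEquiv.refl _).prodCongr a))

end Cfsg.Agent.H79.Ward
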