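import Cfsg.Agent.H29.Ward.Setting
import Cfsg.Agent.H70.Balanced.Criterion
import Cfsg.Agent.H56.CTwoAb.Small
import Cfsg.Agent.H53.SUInvol
import Cfsg.Agent.Unitary.Center
import Cfsg.Agent.Linear.Dickson.Partition
import Cfsg.Agent.S0222
import Cfsg.Agent.S0251

/-!
# Ward's theorem: `q = 3` does not occur

Then `C(t) ≅ 2 × A₄` normalises its elementary Sylow 2-subgroup `S`, all involutions of `S` are
conjugate in `N(S)`, so `N(S)` is strongly embedded, and no group in Bender's list has this
centraliser.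
-/

set_option autoImplicit false
set_option linter.unusedSectionVars false
set_option linter.style.haveILetI false

namespace Cfsg.Agent.H79.Ward

open Subgroup Cfsg.Agent Cfsg.Agent.Linear Cfsg.Agent.Linear.Dickson

abbrev M24 : Type := Multiplicative (ZMod 2) × alternatingGroup (Fin 4)

theorem a4_invol_mul : ∀ a b : alternatingGroup (Fin 4), a * a = 1 → b * b = 1 →
    (a * b) * (a * b) = 1 := by decide +kernel

theorem a4_orders : ∀ a : alternatingGroup (Fin 4), a * a = 1 ∨ a * a * a = 1 := by decide +kernel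

theorem a4_conj : ∀ a b : alternatingGroup (Fin 4), a * a = 1 → a ≠ 1 → b * b = 1 → b ≠ 1 →
    ∃ c, c * a * c⁻¹ = b := by decide +kernel

theorem a4_count : Nat.card {a : alternatingGroup (Fin 4) // a * a = 1} = 4 := by
  rw [Nat.card_eq_fintype_card]; decide +kernel

theorem zmod_cases : ∀ z w : Multiplicative (ZMod 2), w ≠ 1 → z = 1 ∨ z = w := by decide

theorem zmod_cases' : ∀ z w₁ w₂ : Multiplicative (ZMod 2), w₂ ≠ w₁ → z = w₁ ∨ z = w₂ := by decide

theorem a4_nonab : ∃ a b : alternatingGroup (Fin 4), a * b ≠ b * a := by decide +kernel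

/-- In characteristic two the centraliser of an involution of `PSL₂(q)` has order `q`. -/
theorem card_centralizer_invol_even {K : Type*} [Field K] [Fintype K] [CharP K 2]
    {x : Matrix.ProjectiveSpecialLinearGroup (Fin 2) K} (hx : x * x = 1) (hx1 : x ≠ 1) :
    Nat.card (centralizer ({x} : Set (Matrix.ProjectiveSpecialLinearGroup (Fin 2) K))) =
      Fintype.card K := by
  obtain ⟨y, rfl⟩ := proj_surjective x
  have hneg : ∀ z : Matrix.SpecialLinearGroup (Fin 2) K, -z = z := fun z => by
    apply Subtype.ext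
    ext i j
    show -((z : Matrix (Fin 2) (Fin 2) K) i j) = _
    exact CharTwo.neg_eq _
  have hinj : ∀ z w : Matrix.SpecialLinearGroup (Fin 2) K, proj z = proj w → z = w := fun z w h => by
    rcases proj_eq_iff.1 h with e | e
    · exact e.symm
    · rw [e, hneg]
  have hyy : y * y = 1 := hinj _ _ (by rw [map_mul, map_one]; exact hx)
  have hu : IsUni (proj y) := by
    rw [isUni_proj]
    have h1 : ((y * y : Matrix.SpecialLinearGroup (Fin 2) K) : Matrix (Fin 2) (Fin 2) K) = 1 := by
      rw [hyy]; rfl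
    have hd := SL_det_two y
    have e00 : (y * y : Matrix.SpecialLinearGroup (Fin 2) K).1 0 0 = 1 := by rw [hyy]; rfl
    have e11 : (y * y : Matrix.SpecialLinearGroup (Fin 2) K).1 1 1 = 1 := by rw [hyy]; rfl
    simp only [SL_mul_entries] at e00 e11
    have h4 : (4 : K) = 0 := by
      rw [show (4 : K) = 2 * 2 by norm_num, CharTwo.two_eq_zero, zero_mul]
    rw [h4, Matrix.trace_fin_two]
    linear_combination e00 + e11 + (2 : K) * hd + (1 : K) * h4
  rw [← card_cen_of_isUni hx1 hu]
  congr 1
  refine congrArg (fun H : Subgroup _ => ↥H) ?_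
  ext g
  obtain ⟨g, rfl⟩ := proj_surjective g
  rw [mem_cen_proj, mem_centralizer_singleton_iff, mem_centralizer_singleton_iff, ← map_mul,
    ← map_mul]
  exact ⟨fun h => hinj _ _ h, fun h => by rw [h]⟩

/-- `q = 3` is impossible. -/
theorem card_ne_three {G : Type*} [Group G] [Finite G] [IsSimpleGroup G]
    (hab : ∀ P : Sylow 2 G, ∀ a b : P, a * b = b * a) {F : Type*} [Field F] [Fintype F] (t : G)
    (ht : orderOf t = 2)
    (hC : Nonempty (centralizer ({t} : Set G) ≃*
      Multiplicative (ZMod 2) × Matrix.ProjectiveSpecialLinearGroup (Fin 2) F)) :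
    Fintype.card F ≠ 3 := by
  classical
  intro h3
  haveI : Fact (Nat.Prime 2) := ⟨Nat.prime_two⟩
  obtain ⟨a0⟩ := S0251.result h3
  obtain ⟨e0⟩ := hC
  set C := centralizer ({t} : Set G) with hCdef
  let e : C ≃* M24 := e0.trans ((MulEquiv.refl _).prodCongr a0)
  let ι : M24 →* G := C.subtype.comp e.symm.toMonoidHom
  have hι : Function.Injective ι := C.subtype_injective.comp e.symm.injective
  have hιC : ∀ c, ι c ∈ C := fun c => (e.symm c).2
  have hιex : ∀ g ∈ C, ∃ c, ι c = g := fun g hg => ⟨e ⟨g, hg⟩, by simp [ι]⟩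
  have htC : t ∈ C := mem_centralizer_singleton_iff.2 rfl
  -- the squares of `M24`
  have hz : ∀ z : Multiplicative (ZMod 2), z * z = 1 := H29.Ward.zmod_two_mul_self
  have hmul : ∀ c d : M24, c * c = 1 → d * d = 1 → c * d * (c * d) = 1 := fun c d hc hd =>
    Prod.ext (hz _) (a4_invol_mul _ _ (congrArg Prod.snd hc) (congrArg Prod.snd hd))
  let S0 : Subgroup M24 :=
    { carrier := {c | c * c = 1}
      one_mem' := mul_one 1
      mul_mem' := fun {c d} hc hd => hmul c d hc hd
      inv_mem' := fun {c} hc => by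
        show c⁻¹ * c⁻¹ = 1
        rw [← mul_inv_rev, show c * c = 1 from hc, inv_one] }
  set S := S0.map ι with hS
  have hScard : Nat.card S = 8 := by
    rw [hS, card_map_of_injective hι]
    rw [show Nat.card S0 = Nat.card (Multiplicative (ZMod 2) × {a : alternatingGroup (Fin 4) // a * a = 1})
      from Nat.card_congr
        { toFun := fun c => (c.1.1, ⟨c.1.2, congrArg Prod.snd c.2⟩)
          invFun := fun p => ⟨(p.1, p.2.1), Prod.ext (hz _) p.2.2⟩
          left_inv := fun c => rfl
          right_inv := fun p => rfl }]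
    rw [Nat.card_prod, a4_count, Nat.card_congr Multiplicative.toAdd, Nat.card_zmod]
  have hS2 : ∀ x ∈ S, x * x = 1 := by
    rintro _ ⟨c, hc, rfl⟩
    rw [← map_mul, show c * c = 1 from hc, map_one]
  have hSC : S ≤ C := by rintro _ ⟨c, -, rfl⟩; exact hιC c
  have hCS : ∀ g ∈ C, g * g = 1 → g ∈ S := by
    intro g hg hg2
    obtain ⟨c, rfl⟩ := hιex g hg
    exact mem_map_of_mem ι (show c * c = 1 from hι (by rw [map_mul, hg2, map_one]))
  have htt : t * t = 1 := by rw [← pow_two, ← ht, pow_orderOf_eq_one]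
  have htS : t ∈ S := hCS t htC htt
  obtain ⟨P, hP⟩ := (IsPGroup.of_card (p := 2) (n := 3) (by rw [hScard]; norm_num) :
    IsPGroup 2 ↥S).exists_le_sylow
  have hPS : (P : Subgroup G) = S := by
    refine le_antisymm (fun x hx => ?_) hP
    have hxC : x ∈ C := mem_centralizer_singleton_iff.2
      (congrArg Subtype.val (hab P ⟨x, hx⟩ ⟨t, hP htS⟩))
    refine hCS x hxC ?_
    obtain ⟨c, rfl⟩ := hιex x hxC
    obtain ⟨i, hi⟩ := P.isPGroup' ⟨_, hx⟩
    rcases a4_orders c.2 with h | h
    · rw [← map_mul, show c * c = 1 from Prod.ext (hz _) h, map_one]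
    · have h6 : c ^ 6 = 1 := Prod.ext
        (by rw [Prod.pow_fst, show 6 = 2 * 3 from rfl, pow_mul, pow_two, hz, one_pow]; rfl)
        (by rw [Prod.pow_snd, show 6 = 3 * 2 from rfl, pow_mul, show c.2 ^ 3 = 1 by rw [pow_succ, pow_two, h], one_pow]; rfl)
      have hd : orderOf (ι c) ∣ 6 := orderOf_dvd_of_pow_eq_one (by rw [← map_pow, h6, map_one])
      have hd2 : orderOf (ι c) ∣ 2 ^ i := orderOf_dvd_of_pow_eq_one (congrArg Subtype.val hi)
      have hd' : orderOf (ι c) ∣ 2 := by
        refine Nat.Coprime.dvd_of_dvd_mul_right (k := orderOf (ι c)) (n := 3) ?_ hd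
        exact Nat.Coprime.coprime_dvd_left hd2 (Nat.Coprime.pow_left _ (by norm_num))
      rw [← pow_two]
      exact orderOf_dvd_iff_pow_eq_one.1 hd'
  obtain ⟨N, hN⟩ : ∃ N : Subgroup G, N = normalizer (S : Set G) := ⟨_, rfl⟩
  have hCN : C ≤ N := by
    intro g hg
    rw [hN, mem_normalizer_iff]
    intro x
    have key : ∀ g ∈ C, ∀ x ∈ S, g * x * g⁻¹ ∈ S := fun g hg x hx =>
      hCS _ (mul_mem (mul_mem hg (hSC hx)) (inv_mem hg)) (by
        rw [show g * x * g⁻¹ * (g * x * g⁻¹) = g * (x * x) * g⁻¹ by group, hS2 x hx, mul_one,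
          mul_inv_cancel])
    refine ⟨key g hg x, fun h => ?_⟩
    have := key g⁻¹ (inv_mem hg) _ h
    rwa [show g⁻¹ * (g * x * g⁻¹) * g⁻¹⁻¹ = x by group] at this
  have hnab : ∃ a b : G, a * b ≠ b * a := by
    obtain ⟨a, b, h⟩ := a4_nonab
    exact ⟨ι (1, a), ι (1, b), fun h' => h (congrArg Prod.snd (hι ((map_mul ι (1, a) (1, b)).trans (h'.trans (map_mul ι (1, b) (1, a)).symm))))⟩
  -- every involution of `S` is conjugate to `t` in `N`
  have hmem : ∀ n ∈ N, ∀ x ∈ S, n * x * n⁻¹ ∈ S := fun n hn x hx =>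
    (mem_normalizer_iff.1 (hN ▸ hn) x).1 hx
  have hfix : ∀ x ∈ S, x ≠ 1 → ∃ n ∈ N, n * x * n⁻¹ ≠ x := by
    intro x hx hx1
    by_contra hc
    push Not at hc
    haveI : IsMulCommutative ↥(P : Subgroup G) := ⟨⟨hab P⟩⟩
    exact hx1 (H29.Ward.eq_one_of_fixed P hnab inferInstance (hPS.symm ▸ hx)
      fun n hn => hc n (by rw [hN, ← hPS]; exact hn))
  have hall : ∀ x ∈ S, x ≠ 1 → ∃ n ∈ N, n * t * n⁻¹ = x := by
    let O : Set G := {x | ∃ n ∈ N, n * t * n⁻¹ = x}
    have hOinv : ∀ g ∈ N, ∀ x ∈ O, g * x * g⁻¹ ∈ O := by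
      rintro g hg _ ⟨n, hn, rfl⟩
      exact ⟨g * n, mul_mem hg hn, by group⟩
    obtain ⟨n1, hn1, hne1⟩ := hfix t htS (by rintro rfl; simp at ht)
    set x1 := n1 * t * n1⁻¹ with hx1d
    obtain ⟨c0, hc0⟩ := hιex t htC
    have hct : ∀ c, c * c0 = c0 * c := fun c => hι (by
      rw [map_mul, map_mul, hc0]
      exact mem_centralizer_singleton_iff.1 (hιC c))
    -- `t` corresponds to `(u, 1)`
    have hc0' : c0.2 = 1 := by
      by_contra hne
      obtain ⟨b, d, hbd⟩ := a4_nonab
      have h0 : c0.2 * c0.2 = 1 :=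
        congrArg Prod.snd (hι (by rw [map_mul, hc0, htt, map_one]) : c0 * c0 = 1)
      have : ∀ a : alternatingGroup (Fin 4), a * a = 1 → a ≠ 1 → ∃ c, c * a ≠ a * c := by
        decide +kernel
      obtain ⟨c, hc⟩ := this _ h0 hne
      exact hc (congrArg Prod.snd (hct (1, c)))
    have hc01 : c0.1 ≠ 1 := fun h => by
      rw [show c0 = 1 from Prod.ext h hc0', map_one] at hc0
      subst hc0
      simp at ht
    obtain ⟨c1, hc1, hι1⟩ := hmem n1 hn1 t htS
    have hc12 : c1.2 ≠ 1 := fun h => by
      have := zmod_cases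
      rcases this c1.1 c0.1 hc01 with h' | h'
      · rw [show c1 = 1 from Prod.ext h' h, map_one] at hι1
        have h'' : t = 1 := conj_eq_one_iff.1 hι1.symm
        rw [h''] at ht; simp at ht
      · rw [show c1 = c0 from Prod.ext h' (h.trans hc0'.symm), hc0] at hι1
        exact hne1 hι1.symm
    -- classes of `C(t)` on `S`
    have hcls : ∀ z : alternatingGroup (Fin 4), z * z = 1 → z ≠ 1 → ι (c1.1, z) ∈ O := by
      intro z hz2 hz1
      obtain ⟨g, hg⟩ := a4_conj c1.2 z (congrArg Prod.snd (show c1 * c1 = 1 from hc1)) hc12 hz2 hz1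
      have := hOinv (ι (1, g)) (hCN (hιC _)) _ ⟨n1, hn1, hι1.symm⟩
      rwa [← map_mul, ← map_inv, ← map_mul,
        show ((1, g) : M24) * c1 * (1, g)⁻¹ = (c1.1, z) from Prod.ext (by simp) hg] at this
    -- the other class
    have hother : ∃ c : M24, c * c = 1 ∧ c.1 ≠ c1.1 ∧ c.2 ≠ 1 ∧ ι c ∈ O := by
      by_contra hcon
      push Not at hcon
      -- then the orbit of `t` has four elements
      have hO : O = insert t ((fun z => ι (c1.1, z)) '' {z | z * z = 1 ∧ z ≠ 1}) := by
        ext x
        constructor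
        · intro hx
          obtain ⟨n, hn, rfl⟩ := hx
          obtain ⟨c, hc, hcx⟩ := hmem n hn t htS
          rw [← hcx]
          by_cases h2 : c.2 = 1
          · have := zmod_cases
            rcases this c.1 c0.1 hc01 with h' | h'
            · rw [show c = 1 from Prod.ext h' h2, map_one] at hcx
              have h'' : t = 1 := conj_eq_one_iff.1 hcx.symm
              rw [h''] at ht; simp at ht
            · exact Or.inl (by rw [show c = c0 from Prod.ext h' (h2.trans hc0'.symm), hc0])
          · refine Or.inr ⟨c.2, ⟨congrArg Prod.snd (show c * c = 1 from hc), h2⟩, ?_⟩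
            have h' : c.1 = c1.1 := by
              by_contra h'
              exact hcon c hc h' h2 ⟨n, hn, hcx.symm⟩
            show ι (c1.1, c.2) = ι c
            rw [← h']
        · rintro (rfl | ⟨z, ⟨hz2, hz1⟩, rfl⟩)
          · exact ⟨1, one_mem _, by simp⟩
          · exact hcls z hz2 hz1
      have hcard : O.ncard = 4 := by
        rw [hO, Set.ncard_insert_of_notMem, Set.ncard_image_of_injective]
        · rw [show {z : alternatingGroup (Fin 4) | z * z = 1 ∧ z ≠ 1} =
              ({z | z * z = 1} : Set _) \ {1} by ext; simp,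
            Set.ncard_sdiff_singleton_of_mem (by simp), ← Nat.card_coe_set_eq]
          show Nat.card {a : alternatingGroup (Fin 4) // a * a = 1} - 1 + 1 = 4
          rw [a4_count]
        · exact fun a b h => congrArg Prod.snd (hι h)
        · rintro ⟨z, ⟨-, hz1⟩, hz⟩
          exact hz1 ((congrArg Prod.snd (hι (hz.trans hc0.symm))).trans hc0')
      -- but its size is an index of an overgroup of `S`
      have hodd : Odd O.ncard := by
        let A : Subgroup N := (centralizer ({t} : Set G)).subgroupOf N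
        have hA : O.ncard = A.index := by
          rw [index_eq_card, ← Nat.card_coe_set_eq]
          refine (Nat.card_congr (Equiv.ofBijective (Quotient.lift
            (fun n : N => (⟨(n : G) * t * (n : G)⁻¹, n, n.2, rfl⟩ : O)) ?_) ⟨?_, ?_⟩)).symm
          · intro a b hab'
            apply Subtype.ext
            have h := QuotientGroup.leftRel_apply.1 hab'
            have h' : ((a : G)⁻¹ * b) * t = t * ((a : G)⁻¹ * b) := mem_centralizer_singleton_iff.1 h
            show (a : G) * t * (a : G)⁻¹ = b * t * (b : G)⁻¹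
            calc (a : G) * t * (a : G)⁻¹ = a * (t * ((a : G)⁻¹ * b)) * (b : G)⁻¹ := by group
              _ = b * t * (b : G)⁻¹ := by rw [← h']; group
          · rintro ⟨a⟩ ⟨b⟩ h
            have h' : (a : G) * t * (a : G)⁻¹ = b * t * (b : G)⁻¹ := congrArg Subtype.val h
            refine Quotient.sound (QuotientGroup.leftRel_apply.2 (mem_centralizer_singleton_iff.2 ?_))
            show (a : G)⁻¹ * b * t = t * ((a : G)⁻¹ * b)
            calc (a : G)⁻¹ * b * t = (a : G)⁻¹ * (b * t * (b : G)⁻¹) * b := by group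
              _ = t * ((a : G)⁻¹ * b) := by rw [← h']; group
          · rintro ⟨x, n, hn, rfl⟩
            exact ⟨Quotient.mk _ (⟨n, hn⟩ : N), rfl⟩
        rw [hA]
        have hle : S.subgroupOf N ≤ A := fun x hx => hSC hx
        refine Odd.of_dvd_nat ?_ (index_dvd_of_le hle)
        show Odd (S.relIndex N)
        refine Odd.of_dvd_nat ?_ (relIndex_dvd_index_of_le (hN ▸ le_normalizer))
        rw [← hPS, Nat.odd_iff, ← Nat.two_dvd_ne_zero]
        exact P.not_dvd_index
      rw [hcard] at hodd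
      exact absurd hodd (by decide)
    obtain ⟨c2, hc2, hne, hc22, hO2⟩ := hother
    intro x hx hx1
    obtain ⟨c, hc, rfl⟩ := hx
    by_cases h2 : c.2 = 1
    · have := zmod_cases
      rcases this c.1 c0.1 hc01 with h' | h'
      · exact absurd (by rw [show c = 1 from Prod.ext h' h2, map_one]) hx1
      · exact ⟨1, one_mem _, by rw [show c = c0 from Prod.ext h' (h2.trans hc0'.symm), hc0]; simp⟩
    · have := zmod_cases'
      rcases this c.1 c1.1 c2.1 hne with h' | h'
      · have := hcls c.2 (congrArg Prod.snd (show c * c = 1 from hc)) h2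
        rw [← h'] at this
        exact this
      · obtain ⟨g, hg⟩ := a4_conj c2.2 c.2 (congrArg Prod.snd hc2) hc22
          (congrArg Prod.snd (show c * c = 1 from hc)) h2
        have := hOinv (ι (1, g)) (hCN (hιC _)) _ hO2
        rwa [← map_mul, ← map_inv, ← map_mul,
          show ((1, g) : M24) * c2 * (1, g)⁻¹ = c from Prod.ext (by simp [h']) hg] at this
  -- strongly embedded
  have hNtop : N ≠ ⊤ := by
    intro h
    haveI : S.Normal := normalizer_eq_top_iff.1 (hN ▸ h)
    rcases IsSimpleGroup.eq_bot_or_eq_top_of_normal S inferInstance with hb | hb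
    · rw [hb, card_bot] at hScard; omega
    · obtain ⟨a, b, h'⟩ := hnab
      have hPt : ∀ g : G, g ∈ (P : Subgroup G) := fun g => by rw [hPS, hb]; exact mem_top g
      exact h' (congrArg Subtype.val (hab P ⟨a, hPt a⟩ ⟨b, hPt b⟩))
  have hSE : Cfsg.IsStronglyEmbedded N := by
    refine H70.Balanced.isStronglyEmbedded_of_centralizer_le hNtop P ?_ (by rw [hPS, hN]) ?_
    · rw [hPS]; intro h; rw [h, card_bot] at hScard; omega
    · intro x hx hxo g hg
      obtain ⟨n, hn, rfl⟩ := hall x (hPS ▸ hx) (fun h => by rw [h, orderOf_one] at hxo; omega)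
      have h1 : n⁻¹ * g * n ∈ C := by
        rw [hCdef, mem_centralizer_singleton_iff]
        have h2 := mem_centralizer_singleton_iff.1 hg
        calc n⁻¹ * g * n * t = n⁻¹ * (g * (n * t * n⁻¹)) * n := by group
          _ = t * (n⁻¹ * g * n) := by rw [h2]; group
      have := mul_mem (mul_mem hn (hCN h1)) (inv_mem hn)
      rwa [show n * (n⁻¹ * g * n) * n⁻¹ = g by group] at this
  have hC24 : Nat.card C = 24 := by
    rw [Nat.card_congr e.toEquiv, Nat.card_prod, Nat.card_congr Multiplicative.toAdd, Nat.card_zmod]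
    rw [Nat.card_eq_fintype_card]
    decide +kernel
  have h16 : ¬ 16 ∣ Nat.card G := by
    intro h
    have h1 := (P : Subgroup G).card_mul_index
    rw [hPS, hScard] at h1
    rw [← h1] at h
    have : 2 ∣ (S.index) := (Nat.mul_dvd_mul_iff_left (by norm_num : 0 < 8)).1 h
    exact P.not_dvd_index (hPS.symm ▸ this)
  have hd24 : 8 ∣ Nat.card G := hScard ▸ S.card_subgroup_dvd_card
  rcases S0222.result hnab N hSE with ⟨K, _, _, hK2, hK4, ⟨f⟩⟩ | ⟨-, m, hm, hcard⟩ |
    ⟨K, _, _, q, hKq, hqe, hq4, ⟨f⟩⟩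
  · haveI := hK2
    obtain ⟨n, -, hn⟩ := FiniteField.card K 2
    have hf : Nat.card G = Fintype.card K * (Fintype.card K ^ 2 - 1) := by
      rw [Nat.card_congr f.toEquiv, H56.CTwoAb.card_psl_two_even]
      rw [hn]
      exact Nat.dvd_iff_mod_eq_zero.1 (dvd_pow_self 2 n.pos.ne')
    have hn3 : (n : ℕ) ≤ 3 := by
      by_contra hlt
      exact h16 (hf ▸ Dvd.dvd.mul_right (hn ▸ (by
        rw [show (16 : ℕ) = 2 ^ 4 by norm_num]; exact pow_dvd_pow 2 (by omega))) _)
    have hn8 : Fintype.card K = 8 := by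
      rw [hn]
      rcases (show (n : ℕ) = 1 ∨ (n : ℕ) = 2 ∨ (n : ℕ) = 3 by have := n.pos; omega) with e | e | e
      · rw [hn, e] at hK4; omega
      · rw [hn, e] at hf; rw [hf] at hd24; norm_num at hd24
      · rw [e]; norm_num
    have h1 : Nat.card C = Nat.card (centralizer ({f t} : Set _)) := by
      refine Nat.card_congr ((f.subgroupMap C).trans (MulEquiv.subgroupCongr ?_)).toEquiv
      ext x
      show x ∈ C.map f.toMonoidHom ↔ _
      rw [mem_map_equiv, hCdef, mem_centralizer_singleton_iff, mem_centralizer_singleton_iff]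
      constructor
      · intro h
        have := congrArg f h
        simpa using this
      · intro h
        apply f.injective
        simpa using h
    rw [hC24, card_centralizer_invol_even (by rw [← map_mul, htt, map_one])
      (fun h => by rw [MulEquiv.map_eq_one_iff] at h; rw [h] at ht; simp at ht), hn8] at h1
    omega
  · refine h16 (hcard ▸ Dvd.dvd.mul_right (Dvd.dvd.mul_right ?_ _) _)
    rw [← pow_mul, show (16 : ℕ) = 2 ^ 4 by norm_num]
    exact pow_dvd_pow 2 (by omega)
  · refine h16 ?_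
    have hc := Unitary.card_PSU (n := 3) hKq (by norm_num)
    rw [← Nat.card_congr f.toEquiv, H53.card_SU_three hKq] at hc
    obtain ⟨p, hp⟩ := CharP.exists K
    obtain ⟨k, hpp, hk⟩ := FiniteField.card K p
    rw [hKq] at hk
    have hp2 : p = 2 := by
      have h2q : 2 ∣ q ^ 2 := (even_iff_two_dvd.1 hqe).trans (dvd_pow_self q two_ne_zero)
      rw [hk] at h2q
      exact ((Nat.prime_dvd_prime_iff_eq Nat.prime_two hpp).1 (Nat.prime_two.dvd_of_dvd_pow h2q)).symm
    subst hp2
    obtain ⟨i, -, hi⟩ := (Nat.dvd_prime_pow Nat.prime_two).1 (hk ▸ dvd_pow_self q two_ne_zero)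
    have hi2 : 2 ≤ i := by
      by_contra hlt
      have : q ≤ 2 := hi ▸ (Nat.pow_le_pow_right two_pos (by omega : i ≤ 1))
      omega
    have h16q : 16 ∣ q ^ 3 := by
      rw [hi, ← pow_mul, show (16 : ℕ) = 2 ^ 4 by norm_num]
      exact pow_dvd_pow 2 (by omega)
    have h16m : 16 ∣ Nat.gcd 3 (q + 1) * Nat.card G := hc ▸ Dvd.dvd.mul_right (h16q.mul_right _) _
    refine Nat.Coprime.dvd_of_dvd_mul_left ?_ h16m
    exact Nat.Coprime.coprime_dvd_right (Nat.gcd_dvd_left 3 (q + 1)) (by norm_num)

end Cfsg.Agent.H79.Ward
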